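import Mathlib
import Cfsg.Agent.H248.TwF4Dich
import Cfsg.Agent.KFacts.TwF4.Rot
import Cfsg.Agent.H396.HasCG

/-!
# Subgroups of index `2 · odd` in groups of type `²F₄(q)`, `q ≥ 8` (helper187)

`S : Full σ G`, `U = J 1 8`. If `|U : P ∩ U| = 2` and `P` contains no conjugate of `U` then `P` normalises `J 2 8` or
`J 1 7` (`le_norm`). Hence `Par 2 G` (`par_2F4`).
-/

set_option autoImplicit false
set_option linter.unusedSectionVars false

namespace Cfsg.Agent.H187.TwF4Par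

open Cfsg.Agent.KFacts.TwF4 Cfsg.Agent.KFacts.TwF4.Full Cfsg.Agent.KFacts.TwF4.Arc
open Cfsg.Agent.KFacts.TwF4.Inv Cfsg.Agent.KFacts.TwF4.SylU
open Cfsg.Agent.SplitTwo Cfsg.Agent.SplitTwo.ZS Cfsg.Agent.TitsThree.RankTwoZ
open Cfsg.Agent.SplitTwo.RootSysZ Cfsg Cfsg.Lie
open Cfsg.Agent.Nodes.Reps (cj mem_cj conj_mem_cj cj_mul cj_cj_inv cj_inv_cj cj_mono cj_le_cj_iff cj_one)
open scoped commutatorElement

universe u

variable {F : Type*} [Field F] {σ : F →+* F} {G : Type u} [Group G] (S : Full σ G)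

/-- `P ∩ U` has index `2` in `U` and `P` contains no conjugate of `U`. -/
structure Hyp (P : Subgroup G) : Prop where
  two : IsPGroup 2 (J S.XZ 1 8)
  idx : P.relIndex (J S.XZ 1 8) = 2
  nosyl : ∀ g : G, ¬ cj g (J S.XZ 1 8) ≤ P

variable {S}

/-! ### `P ∩ U` -/

section basic

variable [Finite G] {P : Subgroup G}

theorem comm_le (hP : Hyp S P) : ⁅J S.XZ 1 8, J S.XZ 1 8⁆ ≤ P := by
  have : Fact (Nat.Prime 2) := ⟨Nat.prime_two⟩
  exact H396.commutator_le_of_relIndex hP.two hP.idx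

theorem conj_mem_iff (hP : Hyp S P) {b x : G} (hb : b ∈ J S.XZ 1 8) (hx : x ∈ J S.XZ 1 8) :
    b * x * b⁻¹ ∈ P ↔ x ∈ P := by
  have h1 : ⁅b, x⁆ ∈ P := comm_le hP (Subgroup.commutator_mem_commutator hb hx)
  have e : b * x * b⁻¹ = ⁅b, x⁆ * x := by rw [commutatorElement_def]; group
  rw [e]
  exact Subgroup.mul_mem_cancel_left P h1

theorem mem_cj_iff (hP : Hyp S P) {b x : G} (hb : b ∈ J S.XZ 1 8) (hx : x ∈ J S.XZ 1 8) :
    x ∈ cj b P ↔ x ∈ P := by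
  rw [mem_cj]
  have := conj_mem_iff hP (inv_mem hb) hx
  rwa [inv_inv] at this

theorem cj_U {b : G} (hb : b ∈ J S.XZ 1 8) : cj b (J S.XZ 1 8) = J S.XZ 1 8 := by
  ext x
  rw [mem_cj]
  constructor
  · intro h
    have h1 := mul_mem (mul_mem hb h) (inv_mem hb)
    have e : b * (b⁻¹ * x * b) * b⁻¹ = x := by group
    rwa [e] at h1
  · intro h
    exact mul_mem (mul_mem (inv_mem hb) h) hb

theorem Hyp.conj (hP : Hyp S P) {b : G} (hb : b ∈ J S.XZ 1 8) : Hyp S (cj b P) := by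
  refine ⟨hP.two, ?_, fun g hg => hP.nosyl (b⁻¹ * g) ?_⟩
  · have h1 := Subgroup.relIndex_map_map_of_injective (f := (MulAut.conj b).toMonoidHom) P
      (J S.XZ 1 8) (MulAut.conj b).injective
    have h2 : (J S.XZ 1 8).map (MulAut.conj b).toMonoidHom = J S.XZ 1 8 := cj_U hb
    rw [h2] at h1
    exact h1.trans hP.idx
  · rw [cj_mul, ← cj_le_cj_iff b, cj_cj_inv]
    exact hg

/-- `x * y = y * x * z` -/
theorem z_mem (hP : Hyp S P) {x y z : G} (hx : x ∈ J S.XZ 1 8) (hy : y ∈ J S.XZ 1 8) (h : x * y = y * x * z) :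
    z ∈ P := by
  have e : z = ⁅x⁻¹, y⁻¹⁆ := by
    rw [commutatorElement_def, inv_inv, inv_inv]
    have : z = (y * x)⁻¹ * (x * y) := by rw [h]; group
    rw [this]; group
  rw [e]
  exact comm_le hP (Subgroup.commutator_mem_commutator (inv_mem hx) (inv_mem hy))

theorem mul_mem_of_not (hP : Hyp S P) {x y : G} (hx : x ∈ J S.XZ 1 8) (hy : y ∈ J S.XZ 1 8) (hx1 : x ∉ P)
    (hy1 : y ∉ P) : x * y ∈ P := by
  have h1 : (P.subgroupOf (J S.XZ 1 8)).index = 2 := hP.idx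
  have h2 := Subgroup.mul_mem_iff_of_index_two h1 (a := ⟨x, hx⟩) (b := ⟨y, hy⟩)
  simp only [Subgroup.mem_subgroupOf, Subgroup.coe_mul] at h2
  exact h2.2 ⟨fun h => absurd h hx1, fun h => absurd h hy1⟩

end basic

/-! ### the root groups `X_2, …, X_7` -/

section coords

variable [Finite G] {P : Subgroup G}

theorem o_U (a : ZMod 8) (ha : a = 0 ∨ a = 1 ∨ a = 2 ∨ a = 3) (t : F) : S.o a t ∈ J S.XZ 1 8 := by
  rcases ha with rfl | rfl | rfl | rfl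
  · exact mem_J ((mem_X1 S).2 ⟨t, rfl⟩) (by norm_num) (by norm_num)
  · exact mem_J ((mem_X3 S).2 ⟨t, rfl⟩) (by norm_num) (by norm_num)
  · exact mem_J ((mem_X5 S).2 ⟨t, rfl⟩) (by norm_num) (by norm_num)
  · exact mem_J ((mem_X7 S).2 ⟨t, rfl⟩) (by norm_num) (by norm_num)

theorem e_U (a : ZMod 8) (ha : a = 1 ∨ a = 2 ∨ a = 3 ∨ a = 4) (p u : F) : S.e a p u ∈ J S.XZ 1 8 := by
  rcases ha with rfl | rfl | rfl | rfl
  · exact mem_J ((mem_X2 S).2 ⟨p, u, rfl⟩) (by norm_num) (by norm_num)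
  · exact mem_J ((mem_X4 S).2 ⟨p, u, rfl⟩) (by norm_num) (by norm_num)
  · exact mem_J ((mem_X6 S).2 ⟨p, u, rfl⟩) (by norm_num) (by norm_num)
  · exact mem_J ((mem_X8 S).2 ⟨p, u, rfl⟩) (by norm_num) (by norm_num)

theorem o3_mem (hP : Hyp S P) (t : F) : S.o 3 t ∈ P := by
  have h := S.e_e1 3 t 0 1 0
  rw [mul_one] at h
  exact z_mem hP (e_U 3 (by decide) _ _) (e_U 4 (by decide) _ _) h

theorem o2_mem (hP : Hyp S P) (t : F) : S.o 2 t ∈ P := by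
  have h := S.e_e1 2 t 0 1 0
  rw [mul_one] at h
  exact z_mem hP (e_U 2 (by decide) _ _) (e_U 3 (by decide) _ _) h

theorem o1_mem (hP : Hyp S P) (t : F) : S.o 1 t ∈ P := by
  have h := S.e_e1 1 t 0 1 0
  rw [mul_one] at h
  exact z_mem hP (e_U 1 (by decide) _ _) (e_U 2 (by decide) _ _) h

theorem z1_mem (hP : Hyp S P) (t : F) : S.e 1 0 t ∈ P := by
  have h := S.o_e2 0 t 1 0
  rw [mul_one] at h
  exact z_mem hP (o_U 0 (by decide) _) (e_U 2 (by decide) _ _) h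

theorem z2_mem (hP : Hyp S P) (t : F) : S.e 2 0 t ∈ P := by
  have h := S.o_e2 1 t 1 0
  rw [mul_one] at h
  exact z_mem hP (o_U 1 (by decide) _) (e_U 3 (by decide) _ _) h

theorem z3_mem (hP : Hyp S P) (t : F) : S.e 3 0 t ∈ P := by
  have h := S.o_e2 2 t 1 0
  rw [mul_one] at h
  exact z_mem hP (o_U 2 (by decide) _) (e_U 4 (by decide) _ _) h

theorem e_split (a : ZMod 8) (p u : F) : S.e a p u = S.e a p 0 * S.e a 0 u := by
  rw [S.e_mul, add_zero, zero_add, map_zero, mul_zero, add_zero]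

theorem e_split' (a : ZMod 8) (p u : F) : S.e a p u = S.e a 0 u * S.e a p 0 := by
  rw [S.e_mul, add_zero, zero_add, zero_mul, add_zero]

theorem e23_mem (hP : Hyp S P) (p q : F) : S.e 2 (σ p * q) 0 * S.e 3 (p * σ q) 0 ∈ P := by
  have h := S.e_e3 1 p 0 q 0
  have h' := h
  simp only [mul_assoc (S.e (1 + 3) q 0)] at h'
  simp only [mul_assoc] at h
  have h2 : S.e 1 p 0 * S.e 4 q 0 = S.e 4 q 0 * S.e 1 p 0 * (S.o 1 (p * (σ p * q) + 0 * q) *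
      (S.e 2 (σ p * q) (p * (0 * 0) + (p * (p * (σ p * 0))) + (σ 0 * (q * σ q)) + σ 0 * 0) * (S.o 2 (0 * 0) *
      (S.e 3 (p * σ q) (p * (σ p * (q * (q * σ q))) + p * (σ p * σ 0) + 0 * (q * 0) + 0 * (q * (q * σ q)) + 0 * σ 0) *
       S.o 3 (p * (q * σ q) + p * 0))))) := by
    rw [mul_assoc (S.e 4 q 0)]
    exact h
  have h3 := z_mem hP (e_U 1 (by decide) _ _) (e_U 4 (by decide) _ _) h2
  rw [Subgroup.mul_mem_cancel_left P (o1_mem hP _), e_split' 2, mul_assoc,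
    Subgroup.mul_mem_cancel_left P (z2_mem hP _), e_split 3, zero_mul, S.o_zero, one_mul, mul_assoc (S.e 3 _ _)] at h3
  rw [← mul_assoc, Subgroup.mul_mem_cancel_right P (mul_mem (z3_mem hP _) (o3_mem hP _))] at h3
  exact h3

theorem e3_mem (hP : Hyp S P) (hF : ∃ c : Fˣ, c ≠ 1) (x u : F) : S.e 3 x u ∈ P := by
  obtain ⟨d, hd⟩ := hF
  -- `e3 (p + p d⁻¹)`
  have key : ∀ p : F, S.e 3 (p + p * ((d⁻¹ : Fˣ) : F)) 0 ∈ P := by
    intro p
    have h1 := e23_mem hP p 1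
    have h2 := e23_mem hP (p * (d : F)) (σ ((d⁻¹ : Fˣ) : F))
    have hd1 : (d : F) * ((d⁻¹ : Fˣ) : F) = 1 := by rw [← Units.val_mul, mul_inv_cancel, Units.val_one]
    have e1 : σ (p * (d : F)) * σ ((d⁻¹ : Fˣ) : F) = σ p * 1 := by
      rw [← map_mul, mul_assoc, hd1, mul_one, mul_one]
    have e2 : p * (d : F) * σ (σ ((d⁻¹ : Fˣ) : F)) = p * ((d⁻¹ : Fˣ) : F) := by
      rw [S.sq, pow_two, mul_assoc, ← mul_assoc (d : F), hd1, one_mul]
    rw [e1, e2] at h2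
    rw [map_one, mul_one, mul_one] at h1
    rw [mul_one] at h2
    have h3 := mul_mem (inv_mem h2) h1
    have e3 : (S.e 2 (σ p) 0 * S.e 3 (p * ((d⁻¹ : Fˣ) : F)) 0)⁻¹ * (S.e 2 (σ p) 0 * S.e 3 p 0) =
        (S.e 3 (p * ((d⁻¹ : Fˣ) : F)) 0)⁻¹ * S.e 3 p 0 := by group
    rw [e3, e_inv, S.e_mul, e_split, Subgroup.mul_mem_cancel_right P (z3_mem hP _)] at h3
    rwa [add_comm p]
  have hne : (1 : F) + ((d⁻¹ : Fˣ) : F) ≠ 0 := by
    intro h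
    apply hd
    have h2 : ((d⁻¹ : Fˣ) : F) = 1 := by
      have h3 : (1 : F) + ((d⁻¹ : Fˣ) : F) = 1 + 1 := by rw [h, char2 S]
      exact add_left_cancel h3
    have h4 : d⁻¹ = 1 := Units.ext h2
    exact inv_eq_one.1 h4
  have h1 := key (x * (1 + ((d⁻¹ : Fˣ) : F))⁻¹)
  have e1 : x * (1 + ((d⁻¹ : Fˣ) : F))⁻¹ + x * (1 + ((d⁻¹ : Fˣ) : F))⁻¹ * ((d⁻¹ : Fˣ) : F) = x := by
    field_simp
  rw [e1] at h1
  rw [e_split]
  exact mul_mem h1 (z3_mem hP _)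

theorem e2_mem (hP : Hyp S P) (hF : ∃ c : Fˣ, c ≠ 1) (x u : F) : S.e 2 x u ∈ P := by
  have h1 := e23_mem hP 1 x
  rw [Subgroup.mul_mem_cancel_right P (e3_mem hP hF _ _), map_one, one_mul] at h1
  rw [e_split]
  exact mul_mem h1 (z2_mem hP _)

theorem e1_mem (hP : Hyp S P) (hF : ∃ c : Fˣ, c ≠ 1) (x u : F) : S.e 1 x u ∈ P := by
  have h := S.o_e4 0 1 x 0
  have h2 : ∃ w1 w2 w3 w4 w5 w6 w7 w8 : F, S.o 0 1 * S.e 4 x 0 = S.e 4 x 0 * S.o 0 1 * (S.e 1 (1 * x) w1 *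
      (S.o 1 w2 * (S.e 2 w3 w4 * (S.o 2 w5 * (S.e 3 w6 w7 * S.o 3 w8))))) := by
    refine ⟨1 * σ 1 * x * σ x + 1 * σ 1 * 0, 1 * σ 1 * x * 0 + 1 * σ 1 * x * x * σ x + 1 * σ 1 * σ 0,
      σ 1 * x * σ x + σ 1 * 0, 1 * 1 * σ 1 * x * 0 * 0 + 1 * 1 * σ 1 * x * x * σ x * 0 + 1 * 1 * σ 1 * 0 * σ 0,
      1 * σ 1 * σ x * σ 0 + 1 * σ 1 * x * x * σ x * σ x + 1 * σ 1 * 0 * 0, 1 * 0,
      1 * σ 1 * x * 0 * 0 + 1 * σ 1 * x * σ x * σ 0 + 1 * σ 1 * x * x * x * σ x * σ x,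
      1 * x * 0 + 1 * x * x * σ x + 1 * σ 0, ?_⟩
    refine Eq.trans h ?_
    simp only [mul_assoc, zero_add]
  obtain ⟨w1, w2, w3, w4, w5, w6, w7, w8, h2⟩ := h2
  have h3 := z_mem hP (o_U 0 (by decide) _) (e_U 4 (by decide) _ _) h2
  rw [Subgroup.mul_mem_cancel_right P (mul_mem (o1_mem hP _) (mul_mem (e2_mem hP hF _ _) (mul_mem (o2_mem hP _)
    (mul_mem (e3_mem hP hF _ _) (o3_mem hP _))))), one_mul, e_split,
    Subgroup.mul_mem_cancel_right P (z1_mem hP _)] at h3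
  rw [e_split]
  exact mul_mem h3 (z1_mem hP _)

theorem D_le (hP : Hyp S P) (hF : ∃ c : Fˣ, c ≠ 1) : J S.XZ 2 7 ≤ P := by
  refine J_le fun k h1 h2 x hx => ?_
  interval_cases k
  · obtain ⟨p, u, rfl⟩ := (mem_X2 S).1 hx
    exact e1_mem hP hF _ _
  · obtain ⟨t, rfl⟩ := (mem_X3 S).1 hx
    exact o1_mem hP _
  · obtain ⟨p, u, rfl⟩ := (mem_X4 S).1 hx
    exact e2_mem hP hF _ _
  · obtain ⟨t, rfl⟩ := (mem_X5 S).1 hx
    exact o2_mem hP _
  · obtain ⟨p, u, rfl⟩ := (mem_X6 S).1 hx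
    exact e3_mem hP hF _ _
  · obtain ⟨t, rfl⟩ := (mem_X7 S).1 hx
    exact o3_mem hP _

end coords

/-! ### types -/

section types

variable {P : Subgroup G}

/-- the element `b n b'` of `P` with `b, b' ∈ U`, `n X_k n⁻¹ = X_{f k}` -/
def Ty (S : Full σ G) (P : Subgroup G) (f : ZMod (2 * 8) → ZMod (2 * 8)) : Prop :=
  ∃ b ∈ J S.XZ 1 8, ∃ b' ∈ J S.XZ 1 8, ∃ n, Maps S.R.X n f ∧ b * n * b' ∈ P

theorem Ty.of_cj {b : G} (hb : b ∈ J S.XZ 1 8) {f : ZMod (2 * 8) → ZMod (2 * 8)} (h : Ty S (cj b P) f) :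
    Ty S P f := by
  obtain ⟨b₁, h1, b₂, h2, n, hn, hm⟩ := h
  refine ⟨b⁻¹ * b₁, mul_mem (inv_mem hb) h1, b₂ * b, mul_mem h2 hb, n, hn, ?_⟩
  rw [mem_cj] at hm
  have e : b⁻¹ * b₁ * n * (b₂ * b) = b⁻¹ * (b₁ * n * b₂) * b := by group
  rwa [e]

theorem Ty.congr {f g : ZMod (2 * 8) → ZMod (2 * 8)} (h : Ty S P f) (hfg : ∀ k, f k = g k) : Ty S P g := by
  obtain ⟨b₁, h1, b₂, h2, n, hn, hm⟩ := h
  exact ⟨b₁, h1, b₂, h2, n, hn.congr hfg, hm⟩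

/-- the normalised form: `n b ∈ P' = cj b₀ P`, `P'' = cj b P' = n⁻¹ P' n`. -/
theorem Ty.norm {f : ZMod (2 * 8) → ZMod (2 * 8)} (h : Ty S P f) : ∃ b₀ ∈ J S.XZ 1 8, ∃ b ∈ J S.XZ 1 8, ∃ n,
    Maps S.R.X n f ∧ n * b ∈ cj b₀ P ∧ b * n ∈ cj (b * b₀) P ∧ ∀ y, n * y * n⁻¹ ∈ cj b₀ P → y ∈ cj (b * b₀) P := by
  obtain ⟨b₁, h1, b₂, h2, n, hn, hm⟩ := h
  have h0 : n * (b₂ * b₁) ∈ cj b₁⁻¹ P := by
    rw [mem_cj, inv_inv]
    have e : b₁ * (n * (b₂ * b₁)) * b₁⁻¹ = b₁ * n * b₂ := by group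
    rwa [e]
  refine ⟨b₁⁻¹, inv_mem h1, b₂ * b₁, mul_mem h2 h1, n, hn, h0, ?_, ?_⟩
  · rw [cj_mul, mem_cj]
    have e : (b₂ * b₁)⁻¹ * (b₂ * b₁ * n) * (b₂ * b₁) = n * (b₂ * b₁) := by group
    rwa [e]
  · intro y hy
    rw [cj_mul, mem_cj]
    have h3 := mul_mem (mul_mem (inv_mem h0) hy) h0
    have e : (n * (b₂ * b₁))⁻¹ * (n * y * n⁻¹) * (n * (b₂ * b₁)) = (b₂ * b₁)⁻¹ * y * (b₂ * b₁) := by group
    rwa [e] at h3

/-- data of a simple root `i`, `j` the other one, reflection `k ↦ c - k`. -/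
structure Node (S : Full σ G) (i j c : ZMod (2 * 8)) : Prop where
  hi : S.R.X i ≤ J S.XZ 1 8
  hj : S.R.X j ≤ J S.XZ 1 8
  hcj : S.R.X (c - j) ≤ J S.XZ 1 8
  rk : ∀ u ∈ S.R.X (i + 8), u ≠ 1 → ∃ v ∈ S.R.X i, ∃ v' ∈ S.R.X i, Maps S.R.X (v * u * v') (fun k => c - k)
  syl : ∀ (m : G) (Q : Subgroup G), Maps S.R.X m (fun k => c - k) → J S.XZ 2 7 ≤ Q → S.R.X (i + 8) ≤ Q →
    S.R.X j ≤ Q → cj m (J S.XZ 1 8) ≤ Q

theorem X_le_U {k : ℕ} (h1 : 1 ≤ k) (h2 : k ≤ 8) : S.R.X (k : ZMod (2 * 8)) ≤ J S.XZ 1 8 := by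
  have h3 : S.XZ (k : ℤ) ≤ J S.XZ 1 8 := X_le_J (by omega) (by omega)
  have e : S.XZ (k : ℤ) = S.R.X (k : ZMod (2 * 8)) := by
    rw [Cfsg.Agent.H248.TwF4Over.xz_eq, Int.cast_natCast]
  rwa [e] at h3

theorem X_le_D {k : ℕ} (h1 : 2 ≤ k) (h2 : k ≤ 7) : S.R.X (k : ZMod (2 * 8)) ≤ J S.XZ 2 7 := by
  have h3 : S.XZ (k : ℤ) ≤ J S.XZ 2 7 := X_le_J (by omega) (by omega)
  have e : S.XZ (k : ℤ) = S.R.X (k : ZMod (2 * 8)) := by
    rw [Cfsg.Agent.H248.TwF4Over.xz_eq, Int.cast_natCast]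
  rwa [e] at h3

/-- conjugate of a root group -/
theorem maps_conj_le {m : G} {f : ZMod (2 * 8) → ZMod (2 * 8)} (hm : Maps S.R.X m f) {k l : ZMod (2 * 8)}
    (h : f k = l) {Q : Subgroup G} (hQ : S.R.X l ≤ Q) : S.R.X k ≤ Q.comap (MulAut.conj m).toMonoidHom := by
  intro x hx
  show m * x * m⁻¹ ∈ Q
  apply hQ
  rw [← h]
  exact (hm k x).2 hx

theorem syl_of {m : G} {c : ZMod (2 * 8)} (hm : Maps S.R.X m (fun k => c - k)) {Q : Subgroup G}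
    (h : ∀ k : ℕ, 1 ≤ k → k ≤ 8 → S.R.X (c - (k : ZMod (2 * 8))) ≤ Q) : cj m (J S.XZ 1 8) ≤ Q := by
  have h1 : J S.XZ 1 8 ≤ Q.comap (MulAut.conj m).toMonoidHom := by
    refine J_le fun k h1 h2 => ?_
    obtain ⟨d, rfl⟩ : ∃ d : ℕ, k = d := ⟨k.toNat, by omega⟩
    rw [Cfsg.Agent.H248.TwF4Over.xz_eq, Int.cast_natCast]
    exact maps_conj_le hm rfl (h d (by omega) (by omega))
  intro x hx
  rw [mem_cj] at hx
  have h2 := h1 hx
  have h3 : m * (m⁻¹ * x * m) * m⁻¹ ∈ Q := h2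
  have e : m * (m⁻¹ * x * m) * m⁻¹ = x := by group
  rwa [e] at h3

theorem node1 : Node S 1 8 10 := by
  have hc1 : ((1 : ℕ) : ZMod (2 * 8)) = 1 := by norm_num
  refine ⟨?_, ?_, ?_, ?_, ?_⟩
  · exact X_le_U (S := S) (k := 1) (by norm_num) (by norm_num) |>.trans' (by rw [hc1])
  · exact X_le_U (S := S) (k := 8) (by norm_num) (by norm_num)
  · have : (10 : ZMod (2 * 8)) - 8 = ((2 : ℕ) : ZMod (2 * 8)) := by decide
    rw [this]
    exact X_le_U (S := S) (k := 2) (by norm_num) (by norm_num)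
  · intro u hu hu1
    obtain ⟨v, hv, v', hv', h⟩ := S.R.mu _ u hu hu1
    have e : (1 : ZMod (2 * 8)) + 8 + ((8 : ℕ) : ZMod (2 * 8)) = 1 := by decide
    rw [e] at hv hv'
    refine ⟨v, hv, v', hv', fun k x => ?_⟩
    have e2 : ∀ k : ZMod (2 * 8), 10 - k = 2 * (1 + 8) + ((8 : ℕ) : ZMod (2 * 8)) - k := by decide
    show _ ∈ S.R.X (10 - k) ↔ _
    rw [e2]
    exact h k x
  · intro m Q hm hD h9 h8
    refine syl_of hm fun k h1 h2 => ?_
    have hD' : ∀ k : ℕ, 2 ≤ k → k ≤ 7 → S.R.X (k : ZMod (2 * 8)) ≤ Q := fun k h1 h2 => (X_le_D h1 h2).trans hD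
    interval_cases k
    · have : (10 : ZMod (2 * 8)) - ((1 : ℕ) : ZMod (2 * 8)) = 1 + 8 := by decide
      rw [this]; exact h9
    · have : (10 : ZMod (2 * 8)) - ((2 : ℕ) : ZMod (2 * 8)) = 8 := by decide
      rw [this]; exact h8
    · have : (10 : ZMod (2 * 8)) - ((3 : ℕ) : ZMod (2 * 8)) = ((7 : ℕ) : ZMod (2 * 8)) := by decide
      rw [this]; exact hD' 7 (by norm_num) (by norm_num)
    · have : (10 : ZMod (2 * 8)) - ((4 : ℕ) : ZMod (2 * 8)) = ((6 : ℕ) : ZMod (2 * 8)) := by decide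
      rw [this]; exact hD' 6 (by norm_num) (by norm_num)
    · have : (10 : ZMod (2 * 8)) - ((5 : ℕ) : ZMod (2 * 8)) = ((5 : ℕ) : ZMod (2 * 8)) := by decide
      rw [this]; exact hD' 5 (by norm_num) (by norm_num)
    · have : (10 : ZMod (2 * 8)) - ((6 : ℕ) : ZMod (2 * 8)) = ((4 : ℕ) : ZMod (2 * 8)) := by decide
      rw [this]; exact hD' 4 (by norm_num) (by norm_num)
    · have : (10 : ZMod (2 * 8)) - ((7 : ℕ) : ZMod (2 * 8)) = ((3 : ℕ) : ZMod (2 * 8)) := by decide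
      rw [this]; exact hD' 3 (by norm_num) (by norm_num)
    · have : (10 : ZMod (2 * 8)) - ((8 : ℕ) : ZMod (2 * 8)) = ((2 : ℕ) : ZMod (2 * 8)) := by decide
      rw [this]; exact hD' 2 (by norm_num) (by norm_num)

theorem node8 : Node S 8 1 8 := by
  have hc1 : ((1 : ℕ) : ZMod (2 * 8)) = 1 := by norm_num
  refine ⟨?_, ?_, ?_, ?_, ?_⟩
  · exact X_le_U (S := S) (k := 8) (by norm_num) (by norm_num)
  · exact X_le_U (S := S) (k := 1) (by norm_num) (by norm_num) |>.trans' (by rw [hc1])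
  · have : (8 : ZMod (2 * 8)) - 1 = ((7 : ℕ) : ZMod (2 * 8)) := by decide
    rw [this]
    exact X_le_U (S := S) (k := 7) (by norm_num) (by norm_num)
  · intro u hu hu1
    obtain ⟨v, hv, v', hv', h⟩ := S.R.mu _ u hu hu1
    have e : (8 : ZMod (2 * 8)) + 8 + ((8 : ℕ) : ZMod (2 * 8)) = 8 := by decide
    rw [e] at hv hv'
    refine ⟨v, hv, v', hv', fun k x => ?_⟩
    have e2 : ∀ k : ZMod (2 * 8), 8 - k = 2 * (8 + 8) + ((8 : ℕ) : ZMod (2 * 8)) - k := by decide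
    show _ ∈ S.R.X (8 - k) ↔ _
    rw [e2]
    exact h k x
  · intro m Q hm hD h0 h1'
    refine syl_of hm fun k h1 h2 => ?_
    have hD' : ∀ k : ℕ, 2 ≤ k → k ≤ 7 → S.R.X (k : ZMod (2 * 8)) ≤ Q := fun k h1 h2 => (X_le_D h1 h2).trans hD
    interval_cases k
    · have : (8 : ZMod (2 * 8)) - ((1 : ℕ) : ZMod (2 * 8)) = ((7 : ℕ) : ZMod (2 * 8)) := by decide
      rw [this]; exact hD' 7 (by norm_num) (by norm_num)
    · have : (8 : ZMod (2 * 8)) - ((2 : ℕ) : ZMod (2 * 8)) = ((6 : ℕ) : ZMod (2 * 8)) := by decide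
      rw [this]; exact hD' 6 (by norm_num) (by norm_num)
    · have : (8 : ZMod (2 * 8)) - ((3 : ℕ) : ZMod (2 * 8)) = ((5 : ℕ) : ZMod (2 * 8)) := by decide
      rw [this]; exact hD' 5 (by norm_num) (by norm_num)
    · have : (8 : ZMod (2 * 8)) - ((4 : ℕ) : ZMod (2 * 8)) = ((4 : ℕ) : ZMod (2 * 8)) := by decide
      rw [this]; exact hD' 4 (by norm_num) (by norm_num)
    · have : (8 : ZMod (2 * 8)) - ((5 : ℕ) : ZMod (2 * 8)) = ((3 : ℕ) : ZMod (2 * 8)) := by decide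
      rw [this]; exact hD' 3 (by norm_num) (by norm_num)
    · have : (8 : ZMod (2 * 8)) - ((6 : ℕ) : ZMod (2 * 8)) = ((2 : ℕ) : ZMod (2 * 8)) := by decide
      rw [this]; exact hD' 2 (by norm_num) (by norm_num)
    · have : (8 : ZMod (2 * 8)) - ((7 : ℕ) : ZMod (2 * 8)) = 1 := by decide
      rw [this]; exact h1'
    · have : (8 : ZMod (2 * 8)) - ((8 : ℕ) : ZMod (2 * 8)) = 8 + 8 := by decide
      rw [this]; exact h0

variable [Finite G]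

/-- root groups in `U` -/
theorem le_cj_iff (hP : Hyp S P) {b : G} (hb : b ∈ J S.XZ 1 8) {A : Subgroup G} (hA : A ≤ J S.XZ 1 8) :
    A ≤ cj b P ↔ A ≤ P :=
  ⟨fun h _ hx => (mem_cj_iff hP hb (hA hx)).1 (h hx), fun h _ hx => (mem_cj_iff hP hb (hA hx)).2 (h hx)⟩

/-- **step** -/
theorem step (hP : Hyp S P) (hF : ∃ c : Fˣ, c ≠ 1) {i j c : ZMod (2 * 8)} (N : Node S i j c)
    {f : ZMod (2 * 8) → ZMod (2 * 8)} (hf : Ty S P f) {l : ZMod (2 * 8)} (hl : f (i + 8) = l)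
    (hlU : S.R.X l ≤ J S.XZ 1 8) (hlP : S.R.X l ≤ P) :
    Ty S P (fun k => f (c - k)) ∧ Ty S P (fun k => c - k) := by
  obtain ⟨b₀, hb₀, b, hb, n, hn, h1, h2, h3⟩ := hf.norm
  have hbb : b * b₀ ∈ J S.XZ 1 8 := mul_mem hb hb₀
  have hP0 := hP.conj hb₀
  have hP2 := hP.conj hbb
  set Q : Subgroup G := cj (b * b₀) P with hQ
  have hD : J S.XZ 2 7 ≤ Q := D_le hP2 hF
  -- `X (i+8) ≤ Q`
  have hX : S.R.X (i + 8) ≤ Q := by
    intro y hy
    refine h3 y ?_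
    have h4 : n * y * n⁻¹ ∈ S.R.X l := by
      rw [← hl]
      exact (hn _ _).2 hy
    exact (le_cj_iff hP hb₀ hlU).2 hlP h4
  obtain ⟨u, hu, hu1⟩ : ∃ u ∈ S.R.X (i + 8), u ≠ 1 := by
    by_contra hcon
    push Not at hcon
    exact S.R.ne_bot _ ((Subgroup.eq_bot_iff_forall _).2 hcon)
  obtain ⟨v, hv, v', hv', hm⟩ := N.rk u hu hu1
  -- `X j` is not in `Q`
  have hj : ¬ S.R.X j ≤ Q := fun h4 => hP2.nosyl (v * u * v') (N.syl _ _ hm hD hX h4)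
  obtain ⟨w, hw, hwQ⟩ := Set.not_subset.1 hj
  have hwU : w ∈ J S.XZ 1 8 := N.hj hw
  -- `w₁ v, v' w₂ ∈ Q`
  obtain ⟨w₁, hw₁, hq₁⟩ : ∃ w₁ ∈ S.R.X j, w₁ * v ∈ Q := by
    by_cases hvQ : v ∈ Q
    · exact ⟨1, one_mem _, by rwa [one_mul]⟩
    · exact ⟨w, hw, mul_mem_of_not hP2 hwU (N.hi hv) hwQ hvQ⟩
  obtain ⟨w₂, hw₂, hq₂⟩ : ∃ w₂ ∈ S.R.X j, v' * w₂ ∈ Q := by
    by_cases hvQ : v' ∈ Q
    · exact ⟨1, one_mem _, by rwa [mul_one]⟩
    · exact ⟨w, hw, mul_mem_of_not hP2 (N.hi hv') hwU hvQ hwQ⟩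
  have hz : w₁ * (v * u * v') * w₂ ∈ Q := by
    have h5 := mul_mem (mul_mem hq₁ (hX hu)) hq₂
    have e : w₁ * v * u * (v' * w₂) = w₁ * (v * u * v') * w₂ := by group
    rwa [e] at h5
  refine ⟨Ty.of_cj hbb ?_, Ty.of_cj hbb ⟨w₁, N.hj hw₁, w₂, N.hj hw₂, _, hm, hz⟩⟩
  -- `b n z`
  have hmi : Maps S.R.X (v * u * v')⁻¹ (fun k => c - k) := hm.inv (fun k => by ring)
  have hc : (v * u * v')⁻¹ * w₁ * (v * u * v') ∈ J S.XZ 1 8 := by
    refine N.hcj ?_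
    have := (hmi j w₁).2 hw₁
    rwa [inv_inv] at this
  refine ⟨b, hb, (v * u * v')⁻¹ * w₁ * (v * u * v') * w₂, mul_mem hc (N.hj hw₂), n * (v * u * v'),
    (hn.mul hm).congr fun k => rfl, ?_⟩
  have h5 := mul_mem h2 hz
  have e : b * n * (w₁ * (v * u * v') * w₂) = b * (n * (v * u * v')) * ((v * u * v')⁻¹ * w₁ * (v * u * v') * w₂) := by
    group
  rwa [e] at h5

/-- **claim 1** -/
theorem claim1 (hP : Hyp S P) {f : ZMod (2 * 8) → ZMod (2 * 8)} (hf : Ty S P f) {k l : ZMod (2 * 8)} (hl : f k = l)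
    (hkU : S.R.X k ≤ J S.XZ 1 8) (hlU : S.R.X l ≤ J S.XZ 1 8) (hlP : S.R.X l ≤ P) : S.R.X k ≤ P := by
  obtain ⟨b₀, hb₀, b, hb, n, hn, h1, h2, h3⟩ := hf.norm
  have hbb : b * b₀ ∈ J S.XZ 1 8 := mul_mem hb hb₀
  intro y hy
  refine (mem_cj_iff hP hbb (hkU hy)).1 (h3 y ?_)
  have h4 : n * y * n⁻¹ ∈ S.R.X l := by
    rw [← hl]
    exact (hn _ _).2 hy
  exact (le_cj_iff hP hb₀ hlU).2 hlP h4

theorem U_le_of (hP : Hyp S P) (hF : ∃ c : Fˣ, c ≠ 1) (h1 : S.R.X 1 ≤ P) (h8 : S.R.X 8 ≤ P) : False := by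
  refine hP.nosyl 1 ?_
  rw [cj_one]
  refine J_le fun k hk1 hk2 => ?_
  obtain ⟨d, rfl⟩ : ∃ d : ℕ, k = d := ⟨k.toNat, by omega⟩
  rw [Cfsg.Agent.H248.TwF4Over.xz_eq, Int.cast_natCast]
  by_cases hd1 : d = 1
  · subst hd1
    rw [Nat.cast_one]; exact h1
  by_cases hd8 : d = 8
  · subst hd8
    exact h8
  exact (X_le_D (by omega) (by omega)).trans (D_le hP hF)

theorem both (hP : Hyp S P) (hF : ∃ c : Fˣ, c ≠ 1) (h1 : Ty S P (fun k => 10 - k)) (h8 : Ty S P (fun k => 8 - k)) :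
    False := by
  have hD := D_le hP hF
  refine U_le_of hP hF ?_ ?_
  · refine claim1 hP h8 (k := 1) (l := ((7 : ℕ) : ZMod (2 * 8))) (by decide) (node1 (S := S)).hi
      (X_le_U (by norm_num) (by norm_num)) ((X_le_D (by norm_num) (by norm_num)).trans hD)
  · refine claim1 hP h1 (k := 8) (l := ((2 : ℕ) : ZMod (2 * 8))) (by decide) (node8 (S := S)).hi
      (X_le_U (by norm_num) (by norm_num)) ((X_le_D (by norm_num) (by norm_num)).trans hD)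

/-- the step at the root `1`, with `f 9 = d`, `2 ≤ d ≤ 7` -/
theorem s1 (hP : Hyp S P) (hF : ∃ c : Fˣ, c ≠ 1) {f g : ZMod (2 * 8) → ZMod (2 * 8)} (hf : Ty S P f) (d : ℕ)
    (h1 : 2 ≤ d) (h2 : d ≤ 7) (hd : f 9 = d) (hg : ∀ k, f (10 - k) = g k) :
    Ty S P g ∧ Ty S P (fun k => 10 - k) := by
  have h := step hP hF (node1 (S := S)) hf (l := (d : ZMod (2 * 8)))
    (by rw [show (1 : ZMod (2 * 8)) + 8 = 9 by decide]; exact hd)
    (X_le_U (by omega) (by omega)) ((X_le_D h1 h2).trans (D_le hP hF))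
  exact ⟨h.1.congr hg, h.2⟩

/-- the step at the root `8`, with `f 0 = d`, `2 ≤ d ≤ 7` -/
theorem s8 (hP : Hyp S P) (hF : ∃ c : Fˣ, c ≠ 1) {f g : ZMod (2 * 8) → ZMod (2 * 8)} (hf : Ty S P f) (d : ℕ)
    (h1 : 2 ≤ d) (h2 : d ≤ 7) (hd : f 0 = d) (hg : ∀ k, f (8 - k) = g k) :
    Ty S P g ∧ Ty S P (fun k => 8 - k) := by
  have h := step hP hF (node8 (S := S)) hf (l := (d : ZMod (2 * 8)))
    (by rw [show (8 : ZMod (2 * 8)) + 8 = 0 by decide]; exact hd)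
    (X_le_U (by omega) (by omega)) ((X_le_D h1 h2).trans (D_le hP hF))
  exact ⟨h.1.congr hg, h.2⟩

theorem r2 (hP : Hyp S P) (hF : ∃ c : Fˣ, c ≠ 1) (h : Ty S P (fun k => 2 + k)) : False := by
  have a := s8 hP hF h (g := fun k => 10 - k) 2 (by norm_num) (by norm_num) (by decide) (by decide)
  exact both hP hF a.1 a.2

theorem r4 (hP : Hyp S P) (hF : ∃ c : Fˣ, c ≠ 1) (h : Ty S P (fun k => 4 + k)) : False := by
  have a := s8 hP hF h (g := fun k => 12 - k) 4 (by norm_num) (by norm_num) (by decide) (by decide)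
  have b := s1 hP hF a.1 (g := fun k => 2 + k) 3 (by norm_num) (by norm_num) (by decide) (by decide)
  exact both hP hF b.2 a.2

theorem r6 (hP : Hyp S P) (hF : ∃ c : Fˣ, c ≠ 1) (h : Ty S P (fun k => 6 + k)) : False := by
  have a := s8 hP hF h (g := fun k => 14 - k) 6 (by norm_num) (by norm_num) (by decide) (by decide)
  have b := s1 hP hF a.1 (g := fun k => 4 + k) 5 (by norm_num) (by norm_num) (by decide) (by decide)
  exact both hP hF b.2 a.2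

theorem r10 (hP : Hyp S P) (hF : ∃ c : Fˣ, c ≠ 1) (h : Ty S P (fun k => 10 + k)) : False := by
  have a := s1 hP hF h (g := fun k => 4 - k) 3 (by norm_num) (by norm_num) (by decide) (by decide)
  have b := s8 hP hF a.1 (g := fun k => 12 + k) 4 (by norm_num) (by norm_num) (by decide) (by decide)
  exact both hP hF a.2 b.2

theorem r12 (hP : Hyp S P) (hF : ∃ c : Fˣ, c ≠ 1) (h : Ty S P (fun k => 12 + k)) : False := by
  have a := s1 hP hF h (g := fun k => 6 - k) 5 (by norm_num) (by norm_num) (by decide) (by decide)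
  have b := s8 hP hF a.1 (g := fun k => 14 + k) 6 (by norm_num) (by norm_num) (by decide) (by decide)
  exact both hP hF a.2 b.2

theorem r14 (hP : Hyp S P) (hF : ∃ c : Fˣ, c ≠ 1) (h : Ty S P (fun k => 14 + k)) : False := by
  have a := s1 hP hF h (g := fun k => 8 - k) 7 (by norm_num) (by norm_num) (by decide) (by decide)
  exact both hP hF a.2 a.1

theorem m0 (hP : Hyp S P) (hF : ∃ c : Fˣ, c ≠ 1) (h : Ty S P (fun k => 0 - k)) : False :=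
  r6 hP hF (s1 hP hF h (g := fun k => 6 + k) 7 (by norm_num) (by norm_num) (by decide) (by decide)).1

theorem m2 (hP : Hyp S P) (hF : ∃ c : Fˣ, c ≠ 1) (h : Ty S P (fun k => 2 - k)) : False :=
  r10 hP hF (s8 hP hF h (g := fun k => 10 + k) 2 (by norm_num) (by norm_num) (by decide) (by decide)).1

theorem m4 (hP : Hyp S P) (hF : ∃ c : Fˣ, c ≠ 1) (h : Ty S P (fun k => 4 - k)) : False :=
  r12 hP hF (s8 hP hF h (g := fun k => 12 + k) 4 (by norm_num) (by norm_num) (by decide) (by decide)).1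

theorem m6 (hP : Hyp S P) (hF : ∃ c : Fˣ, c ≠ 1) (h : Ty S P (fun k => 6 - k)) : False :=
  r14 hP hF (s8 hP hF h (g := fun k => 14 + k) 6 (by norm_num) (by norm_num) (by decide) (by decide)).1

theorem m12 (hP : Hyp S P) (hF : ∃ c : Fˣ, c ≠ 1) (h : Ty S P (fun k => 12 - k)) : False :=
  r2 hP hF (s1 hP hF h (g := fun k => 2 + k) 3 (by norm_num) (by norm_num) (by decide) (by decide)).1

theorem m14 (hP : Hyp S P) (hF : ∃ c : Fˣ, c ≠ 1) (h : Ty S P (fun k => 14 - k)) : False :=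
  r4 hP hF (s1 hP hF h (g := fun k => 4 + k) 5 (by norm_num) (by norm_num) (by decide) (by decide)).1

/-- the longest element -/
theorem r8 (hP : Hyp S P) (hF : ∃ c : Fˣ, c ≠ 1) (h : Ty S P (fun k => 8 + k)) : False := by
  have hN1 := node1 (S := S)
  have hN8 := node8 (S := S)
  have hX1 : ¬ S.R.X 1 ≤ P := fun hX => by
    have a := step hP hF hN1 h (l := 1) (by decide) hN1.hi hX
    exact m2 hP hF (a.1.congr (by decide))
  have hX8 : ¬ S.R.X 8 ≤ P := fun hX => by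
    have a := step hP hF hN8 h (l := 8) (by decide) hN8.hi hX
    exact m0 hP hF (a.1.congr (by decide))
  obtain ⟨b₀, hb₀, b, hb, n, hn, h1, h2, h3⟩ := h.norm
  have hbb : b * b₀ ∈ J S.XZ 1 8 := mul_mem hb hb₀
  obtain ⟨x, hx, hxP⟩ := Set.not_subset.1 hX1
  obtain ⟨y, hy, hyP⟩ := Set.not_subset.1 hX8
  have hxy : x * y ∈ P := mul_mem_of_not hP (hN1.hi hx) (hN8.hi hy) hxP hyP
  have hxy0 : x * y ∈ cj b₀ P := (mem_cj_iff hP hb₀ (mul_mem (hN1.hi hx) (hN8.hi hy))).2 hxy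
  have hx' : n⁻¹ * x * n ∈ S.R.X (1 + 8) := by
    rw [← hn]
    have e : n * (n⁻¹ * x * n) * n⁻¹ = x := by group
    rw [e]
    show x ∈ S.R.X (8 + (1 + 8))
    rw [show (8 : ZMod (2 * 8)) + (1 + 8) = 1 by decide]
    exact hx
  have hy' : n⁻¹ * y * n ∈ S.R.X (8 + 8) := by
    rw [← hn]
    have e : n * (n⁻¹ * y * n) * n⁻¹ = y := by group
    rw [e]
    show y ∈ S.R.X (8 + (8 + 8))
    rw [show (8 : ZMod (2 * 8)) + (8 + 8) = 8 by decide]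
    exact hy
  have hne : ∀ z : G, z ∉ P → n⁻¹ * z * n ≠ 1 := by
    intro z hz h4
    apply hz
    have e : z = n * (n⁻¹ * z * n) * n⁻¹ := by group
    rw [e, h4, mul_one, mul_inv_cancel]
    exact one_mem _
  obtain ⟨v, hv, v', hv', hm1⟩ := hN1.rk _ hx' (hne x hxP)
  obtain ⟨w, hw, w', hw', hm2⟩ := hN8.rk _ hy' (hne y hyP)
  set x' := n⁻¹ * x * n with hx'def
  set y' := n⁻¹ * y * n with hy'def
  have hxyQ : x' * y' ∈ cj (b * b₀) P := by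
    refine h3 _ ?_
    have e : n * (x' * y') * n⁻¹ = x * y := by rw [hx'def, hy'def]; group
    rwa [e]
  have Z := S.zsys8
  -- `w v'⁻¹ w⁻¹ ∈ J 1 7`
  have hc1 : w * v'⁻¹ * w⁻¹ ∈ J S.XZ 1 7 := by
    have h4 : v'⁻¹ ∈ J S.XZ 1 7 := by
      refine X_le_J (X := S.XZ) (k := 1) le_rfl (by norm_num) ?_
      rw [Cfsg.Agent.H248.TwF4Over.xz_eq, Int.cast_one]
      exact inv_mem hv'
    exact Z.conj_J (a := 1) (b := 7) (c := 1) (d := 8) (by norm_num) (by norm_num) (by norm_num) (hN8.hi hw) h4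
  have hm2i : Maps S.R.X (w * y' * w')⁻¹ (fun k => 8 - k) := hm2.inv (fun k => by ring)
  have hc2 : (w * y' * w')⁻¹ * (w * v'⁻¹ * w⁻¹) * (w * y' * w') ∈ J S.XZ 1 8 := by
    have h5 := Cfsg.Agent.H248.TwF4Over.conj_J_of_maps (Cfsg.Agent.H248.TwF4Over.cond_top S) (n := (w * y' * w')⁻¹)
      (a := 1) (b := 7) (Or.inr (by exact_mod_cast hm2i)) hc1
    rw [inv_inv] at h5
    exact J_mono le_rfl (by norm_num) h5
  have hc3 : (v * x' * v') * w⁻¹ * (v * x' * v')⁻¹ ∈ J S.XZ 1 8 := by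
    refine hN1.hcj ?_
    exact (hm1 8 w⁻¹).2 (inv_mem hw)
  have hty : Ty S (cj (b * b₀) P) (fun k => 2 + k) := by
    refine ⟨v⁻¹ * ((v * x' * v') * w⁻¹ * (v * x' * v')⁻¹), mul_mem (inv_mem (hN1.hi hv)) hc3,
      ((w * y' * w')⁻¹ * (w * v'⁻¹ * w⁻¹) * (w * y' * w')) * w'⁻¹, mul_mem hc2 (inv_mem (hN8.hi hw')),
      (v * x' * v') * (w * y' * w'), (hm1.mul hm2).congr (fun k => ?_), ?_⟩
    · have : ∀ k : ZMod (2 * 8), 10 - (8 - k) = 2 + k := by decide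
      exact this k
    · have e : v⁻¹ * ((v * x' * v') * w⁻¹ * (v * x' * v')⁻¹) * ((v * x' * v') * (w * y' * w')) *
          (((w * y' * w')⁻¹ * (w * v'⁻¹ * w⁻¹) * (w * y' * w')) * w'⁻¹) = x' * y' := by group
      rw [e]; exact hxyQ
  exact r2 hP hF (Ty.of_cj hbb hty)

/-- **the types** -/
theorem types (hP : Hyp S P) (hF : ∃ c : Fˣ, c ≠ 1) {f : ZMod (2 * 8) → ZMod (2 * 8)} (h : Ty S P f) (c : ℤ)
    (hc : (∀ k, f k = ((2 * c : ℤ) : ZMod (2 * 8)) + k) ∨ (∀ k, f k = ((2 * c : ℤ) : ZMod (2 * 8)) - k)) :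
    (∀ k, f k = k) ∨ ((∀ k, f k = 10 - k) ∧ Ty S P (fun k => 10 - k)) ∨
      ((∀ k, f k = 8 - k) ∧ Ty S P (fun k => 8 - k)) := by
  obtain ⟨d, hd, hcd⟩ : ∃ d : ℕ, d < 8 ∧ ((2 * c : ℤ) : ZMod (2 * 8)) = ((2 * d : ℕ) : ZMod (2 * 8)) := by
    refine ⟨(c % 8).toNat, by omega, ?_⟩
    have h1 : (((2 * (c % 8).toNat : ℕ) : ℤ) : ZMod (2 * 8)) = ((2 * (c % 8).toNat : ℕ) : ZMod (2 * 8)) := by
      rw [Int.cast_natCast]
    rw [← h1, ZMod.intCast_eq_intCast_iff]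
    show (2 * c) % ((2 * 8 : ℕ) : ℤ) = ((2 * (c % 8).toNat : ℕ) : ℤ) % ((2 * 8 : ℕ) : ℤ)
    push_cast
    omega
  rw [hcd] at hc
  rcases hc with hc | hc
  · have h' := h.congr hc
    interval_cases d
    · left
      intro k
      rw [hc k]
      have : ∀ k : ZMod (2 * 8), ((2 * 0 : ℕ) : ZMod (2 * 8)) + k = k := by decide
      exact this k
    · exact (r2 hP hF (h'.congr (by decide))).elim
    · exact (r4 hP hF (h'.congr (by decide))).elim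
    · exact (r6 hP hF (h'.congr (by decide))).elim
    · exact (r8 hP hF (h'.congr (by decide))).elim
    · exact (r10 hP hF (h'.congr (by decide))).elim
    · exact (r12 hP hF (h'.congr (by decide))).elim
    · exact (r14 hP hF (h'.congr (by decide))).elim
  · have h' := h.congr hc
    interval_cases d
    · exact (m0 hP hF (h'.congr (by decide))).elim
    · exact (m2 hP hF (h'.congr (by decide))).elim
    · exact (m4 hP hF (h'.congr (by decide))).elim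
    · exact (m6 hP hF (h'.congr (by decide))).elim
    · right; right
      have e : ∀ k : ZMod (2 * 8), ((2 * 4 : ℕ) : ZMod (2 * 8)) - k = 8 - k := by decide
      exact ⟨fun k => (hc k).trans (e k), h'.congr e⟩
    · right; left
      have e : ∀ k : ZMod (2 * 8), ((2 * 5 : ℕ) : ZMod (2 * 8)) - k = 10 - k := by decide
      exact ⟨fun k => (hc k).trans (e k), h'.congr e⟩
    · exact (m12 hP hF (h'.congr (by decide))).elim
    · exact (m14 hP hF (h'.congr (by decide))).elim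

theorem torus_mul_maps {t w : G} (ht : t ∈ S.T) (hw : S.IsDihE w) :
    ∃ c : ℤ, ∃ f, Maps S.R.X (t * w) f ∧
      ((∀ k, f k = ((2 * c : ℤ) : ZMod (2 * 8)) + k) ∨ (∀ k, f k = ((2 * c : ℤ) : ZMod (2 * 8)) - k)) := by
  obtain ⟨c, hc⟩ := hw
  have key : ∀ f : ZMod (2 * 8) → ZMod (2 * 8), Maps S.R.X w f → Maps S.R.X (t * w) f := by
    intro f hf k x
    have e : t * w * x * (t * w)⁻¹ = t * (w * x * w⁻¹) * t⁻¹ := by group
    rw [e]
    exact (ht _ _).trans (hf _ _)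
  rcases hc with hc | hc
  · exact ⟨c, _, key _ hc, Or.inl fun k => rfl⟩
  · exact ⟨c, _, key _ hc, Or.inr fun k => rfl⟩

/-- **`P` is in a maximal parabolic subgroup** -/
theorem le_norm (hP : Hyp S P) (hF : ∃ c : Fˣ, c ≠ 1) :
    P ≤ Subgroup.normalizer (J S.XZ 2 8 : Set G) ∨ P ≤ Subgroup.normalizer (J S.XZ 1 7 : Set G) := by
  have Z := S.zsys8
  have hb1 : ∀ b ∈ J S.XZ 1 8, ∀ x ∈ J S.XZ 2 8, b * x * b⁻¹ ∈ J S.XZ 2 8 := fun b hb x hx =>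
    Z.conj_J (a := 2) (b := 8) (c := 1) (d := 8) (by norm_num) (by norm_num) (by norm_num) hb hx
  have hb2 : ∀ b ∈ J S.XZ 1 8, ∀ x ∈ J S.XZ 1 7, b * x * b⁻¹ ∈ J S.XZ 1 7 := fun b hb x hx =>
    Z.conj_J (a := 1) (b := 7) (c := 1) (d := 8) (by norm_num) (by norm_num) (by norm_num) hb hx
  have C := Cfsg.Agent.H248.TwF4Over.cond_top S
  by_cases h8 : Ty S P (fun k => 8 - k)
  · right
    intro g hg
    obtain ⟨b, hb, t, ht, w, hw, b', hb', rfl⟩ := S.bruhatE g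
    have hg' : b * (t * w) * b' ∈ P := by rwa [← mul_assoc]
    refine Cfsg.Agent.H248.TwF4Over.mem_normalizer_J C fun x hx => ?_
    obtain ⟨c, f, hf, hc⟩ := torus_mul_maps ht hw
    have key : ∀ y ∈ J S.XZ 1 7, (t * w) * y * (t * w)⁻¹ ∈ J S.XZ 1 7 := by
      intro y hy
      rcases types hP hF ⟨b, hb, b', hb', _, hf, hg'⟩ c hc with h | ⟨-, h⟩ | ⟨h, -⟩
      · exact Cfsg.Agent.H248.TwF4Over.conj_J_of_maps C (Or.inl (hf.congr h)) hy
      · exact (both hP hF h h8).elim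
      · exact Cfsg.Agent.H248.TwF4Over.conj_J_of_maps C (Or.inr (by exact_mod_cast hf.congr h)) hy
    have h1 := hb2 b hb _ (key _ (hb2 b' hb' x hx))
    have e : b * (t * w * (b' * x * b'⁻¹) * (t * w)⁻¹) * b⁻¹ = b * t * w * b' * x * (b * t * w * b')⁻¹ := by group
    rwa [e] at h1
  · left
    intro g hg
    obtain ⟨b, hb, t, ht, w, hw, b', hb', rfl⟩ := S.bruhatE g
    have hg' : b * (t * w) * b' ∈ P := by rwa [← mul_assoc]
    refine Cfsg.Agent.H248.TwF4Over.mem_normalizer_J C fun x hx => ?_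
    obtain ⟨c, f, hf, hc⟩ := torus_mul_maps ht hw
    have key : ∀ y ∈ J S.XZ 2 8, (t * w) * y * (t * w)⁻¹ ∈ J S.XZ 2 8 := by
      intro y hy
      rcases types hP hF ⟨b, hb, b', hb', _, hf, hg'⟩ c hc with h | ⟨h, -⟩ | ⟨-, h⟩
      · exact Cfsg.Agent.H248.TwF4Over.conj_J_of_maps C (Or.inl (hf.congr h)) hy
      · exact Cfsg.Agent.H248.TwF4Over.conj_J_of_maps C (Or.inr (by exact_mod_cast hf.congr h)) hy
      · exact (h8 h).elim
    have h1 := hb1 b hb _ (key _ (hb1 b' hb' x hx))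
    have e : b * (t * w * (b' * x * b'⁻¹) * (t * w)⁻¹) * b⁻¹ = b * t * w * b' * x * (b * t * w * b')⁻¹ := by group
    rwa [e] at h1

end types

/-! ### `Par 2` -/

section par

theorem o_ne_one (a : ZMod 8) : S.o a 1 ≠ 1 := fun h => one_ne_zero (α := F) (S.injO a (by rw [h, S.o_zero]))

theorem norm_ne_top1 : Subgroup.normalizer (J S.XZ 2 8 : Set G) ≠ ⊤ := by
  intro h
  have h1 : S.rot ∈ Subgroup.normalizer (J S.XZ 2 8 : Set G) := by rw [h]; trivial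
  have h2 : S.o 3 1 ∈ J S.XZ 2 8 := mem_J ((mem_X7 S).2 ⟨1, rfl⟩) (by norm_num) (by norm_num)
  have h3 := (Subgroup.mem_normalizer_iff.1 h1 _).1 h2
  rw [S.rot_o] at h3
  have h4 : S.o (3 + 1) 1 ∈ S.XZ 9 := (mem_X9 S).2 ⟨1, rfl⟩
  exact o_ne_one (S := S) _ (S.zsys8.inter' (k := 9) h4 (J_mono (by norm_num) (by norm_num) h3))

theorem norm_ne_top2 : Subgroup.normalizer (J S.XZ 1 7 : Set G) ≠ ⊤ := by
  intro h
  have h1 : S.rot⁻¹ ∈ Subgroup.normalizer (J S.XZ 1 7 : Set G) := by rw [h]; trivial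
  have h2 : S.e 1 1 0 ∈ J S.XZ 1 7 := mem_J ((mem_X2 S).2 ⟨1, 0, rfl⟩) (by norm_num) (by norm_num)
  have h3 := (Subgroup.mem_normalizer_iff.1 h1 _).1 h2
  have e : S.rot⁻¹ * S.e 1 1 0 * S.rot⁻¹⁻¹ = S.e 0 1 0 := by
    have h4 := S.rot_e 0 1 0
    rw [zero_add] at h4
    rw [← h4]; group
  rw [e] at h3
  have h4 : S.e 0 1 0 ∈ S.XZ 0 := (mem_X0 S).2 ⟨1, 0, rfl⟩
  have h5 := S.zsys8.inter 0 _ h4 (J_mono (by norm_num) (by norm_num) h3)
  exact one_ne_zero (α := F) (S.e_eq_one h5).1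

theorem U_le_norm1 : J S.XZ 1 8 ≤ Subgroup.normalizer (J S.XZ 2 8 : Set G) :=
  le_trans (J_mono (by norm_num) (by norm_num)) (S.zsys8.le_normalizer (a := 2) (b := 8) (by norm_num))

theorem U_le_norm2 : J S.XZ 1 8 ≤ Subgroup.normalizer (J S.XZ 1 7 : Set G) :=
  le_trans (J_mono (by norm_num) (by norm_num)) (S.zsys8.le_normalizer (a := 1) (b := 7) (by norm_num))

theorem par_full [Finite F] [Finite G] (hF : ∃ c : Fˣ, c ≠ 1) (hR : S.R.p = 2) : Cfsg.Agent.H396.Par 2 G := by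
  have hfact : Fact (Nat.Prime 2) := ⟨Nat.prime_two⟩
  have hU2 : IsPGroup 2 (J S.XZ 1 8) := isPGroup_J S.zsys8 (two_X S hR) 8 1 8 (by norm_num) (by norm_num)
  obtain ⟨Sy, hSy⟩ := exists_sylow S hF hR
  have hUi : ¬ 2 ∣ (J S.XZ 1 8).index := by
    rw [← hSy]
    exact Sy.not_dvd_index
  have hcjidx : ∀ (x : G) (A : Subgroup G), (cj x A).index = A.index := fun x A =>
    Subgroup.index_map_equiv A (MulAut.conj x)
  have key : ∀ (M V : Subgroup G) (g : G), V ≤ J S.XZ 1 8 → V ≠ ⊥ → Subgroup.normalizer (V : Set G) ≠ ⊤ →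
      J S.XZ 1 8 ≤ Subgroup.normalizer (V : Set G) → cj g M ≤ Subgroup.normalizer (V : Set G) →
      ∃ Q : Subgroup G, M ≤ Q ∧ Q ≠ ⊤ ∧ ¬ 2 ∣ Q.index ∧
        ∃ V : Subgroup G, V ≠ ⊥ ∧ IsPGroup 2 V ∧ V ≤ Q ∧ Q ≤ Subgroup.normalizer (V : Set G) := by
    intro M V g hVU hV hN hUN hle
    refine ⟨cj g⁻¹ (Subgroup.normalizer (V : Set G)), ?_, ?_, ?_, cj g⁻¹ V, ?_, ?_, cj_mono _ Subgroup.le_normalizer, ?_⟩
    · rw [← cj_le_cj_iff g, cj_cj_inv]; exact hle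
    · intro h1
      have h2 : (cj g⁻¹ (Subgroup.normalizer (V : Set G))).index = 1 := by rw [h1, Subgroup.index_top]
      rw [hcjidx, Subgroup.index_eq_one] at h2
      exact hN h2
    · rw [hcjidx]
      intro h1
      exact hUi (h1.trans (Subgroup.index_dvd_of_le hUN))
    · intro h1
      exact hV ((Subgroup.map_eq_bot_iff_of_injective _ (MulAut.conj g⁻¹).injective).1 h1)
    · exact (hU2.to_le hVU).map _
    · exact H396.mem_normalizer_map (MulAut.conj g⁻¹) le_rfl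
  have hV1 : J S.XZ 2 8 ≤ J S.XZ 1 8 := J_mono (by norm_num) (by norm_num)
  have hV2 : J S.XZ 1 7 ≤ J S.XZ 1 8 := J_mono (by norm_num) (by norm_num)
  have hb1 : J S.XZ 2 8 ≠ ⊥ := Cfsg.Agent.H248.TwF4Over.J_ne_bot S (by norm_num)
  have hb2 : J S.XZ 1 7 ≠ ⊥ := Cfsg.Agent.H248.TwF4Over.J_ne_bot S (by norm_num)
  intro M hM hidx
  by_cases hpi : 2 ∣ M.index
  · obtain ⟨g, h1, h2⟩ := H396.exists_conj_index hU2 hUi hpi hidx
    rcases le_norm (S := S) (P := cj g M) ⟨hU2, h1, h2⟩ hF with h | h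
    · exact key M _ g hV1 hb1 norm_ne_top1 U_le_norm1 h
    · exact key M _ g hV2 hb2 norm_ne_top2 U_le_norm2 h
  · obtain ⟨g, hg⟩ := H248.Ovg.exists_conj_le hU2 hpi
    have hU : J S.XZ 1 8 ≤ cj g⁻¹ M := by
      rw [← cj_le_cj_iff g, cj_cj_inv]; exact hg
    have hU' : J S.XZ 1 8 ⊓ ⊤ ≤ cj g⁻¹ M := by rwa [inf_top_eq]
    rcases Cfsg.Agent.H248.TwF4Over.overgroup (Cfsg.Agent.H248.TwF4Over.cond_top S) hU' with h | h | h
    · exfalso
      have h3 : (cj g⁻¹ M).index = 1 := by rw [top_le_iff.1 h, Subgroup.index_top]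
      rw [hcjidx, Subgroup.index_eq_one] at h3
      exact hM h3
    · exact key M _ g⁻¹ hV1 hb1 norm_ne_top1 U_le_norm1 h
    · exact key M _ g⁻¹ hV2 hb2 norm_ne_top2 U_le_norm2 h

end par

end Cfsg.Agent.H187.TwF4Par

namespace Cfsg.Agent.H187

open Cfsg Cfsg.Lie Cfsg.Agent.KFacts.TwF4

/-- every group `²F₄(q)`, `q ≥ 8`, has coordinates -/
theorem exists_full {T : Type*} [Group T] (h : Iso2F4 T) : ∃ (F : Type) (_ : Field F) (_ : Fintype F) (m : ℕ)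
    (φ : F →+* F) (S : Full φ ↥(twistedF4 F (2 ^ m))), 1 ≤ m ∧ Fintype.card F = 2 ^ (2 * m + 1) ∧
      Nonempty (T ≃* ↥(twistedF4 F (2 ^ m))) ∧ S.R.p = 2 ∧ Finite ↥(twistedF4 F (2 ^ m)) ∧ ∃ c : Fˣ, c ≠ 1 := by
  obtain ⟨F, i1, i2, m, hm, hK, ⟨e⟩⟩ := h
  obtain ⟨φ, hφ⟩ := Cfsg.Agent.ChevalleyStructure.TwF4.TwistedFix.exists_rln hK
  have := Cfsg.Agent.ChevalleyStructure.TwF4.Twisted.charP_two hK
  have hF : ∃ c : Fˣ, c ≠ 1 := by
    have h1 : 1 < Nat.card Fˣ := by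
      rw [Nat.card_units, Nat.card_eq_fintype_card, hK]
      have : 2 ^ 3 ≤ 2 ^ (2 * m + 1) := Nat.pow_le_pow_right (by norm_num) (by omega)
      omega
    have h2 : Nontrivial Fˣ := Finite.one_lt_card_iff_nontrivial.1 h1
    exact exists_ne 1
  exact ⟨F, i1, i2, m, φ, Cfsg.Agent.KFacts.TwF4.Inst.full hK hφ, hm, hK, ⟨e⟩, rfl, inferInstance, hF⟩

/-- **Parabolic theorem for `²F₄(q)`, `q ≥ 8`** -/
theorem par_2F4 {T : Type*} [Group T] [Finite T] (h : Cfsg.Lie.Iso2F4 T) : Cfsg.Agent.H396.Par 2 T := by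
  obtain ⟨F, _, _, m, φ, S, -, -, ⟨e⟩, hR, hfin, hF⟩ := exists_full h
  exact (TwF4Par.par_full (S := S) hF hR).of_equiv e.symm

end Cfsg.Agent.H187
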