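import Mathlib
import Cfsg.Agent.H187.TwF4Par
import Cfsg.Agent.H396.Der
import Cfsg.Agent.H436.Ppd
import Cfsg.Agent.KFacts.TwF4.CentR
import Cfsg.Agent.S1068

/-!
# Subgroups of square-free index in `²F₄(q)`, `q ≥ 8` (helper187)

* `not_dvd_card_normalizer` : a primitive prime of `2 ^ e - 1` does not divide `|N(V)|` for a `2`-subgroup `V` of order
  `< 2 ^ e` whose centraliser is a `2`-group;
* `sq_2F4`.
-/

set_option autoImplicit false
set_option linter.unusedSectionVars false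

namespace Cfsg.Agent.H187

/-- an automorphism of prime order `u` of a group of order `p ^ a`, `u ∤ p ^ k - 1` for `1 ≤ k ≤ a`, is trivial. -/
theorem aut_eq_one {V : Type*} [Group V] [Finite V] {p u a : ℕ} (hp : p.Prime) (hu : u.Prime) (hup : u ≠ p)
    (hV : Nat.card V = p ^ a) (h : ∀ k, 1 ≤ k → k ≤ a → ¬ u ∣ p ^ k - 1) (α : MulAut V) (hα : α ^ u = 1) : α = 1 := by
  have := Fact.mk hu
  have hA : IsPGroup u ↥(Subgroup.zpowers α) := by
    rintro ⟨x, hx⟩
    obtain ⟨n, rfl⟩ := Subgroup.mem_zpowers_iff.1 hx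
    refine ⟨1, Subtype.ext ?_⟩
    show (α ^ n) ^ (u ^ 1) = 1
    rw [pow_one, ← zpow_natCast, ← zpow_mul, mul_comm, zpow_mul, zpow_natCast, hα, one_zpow]
  have hmod := hA.card_modEq_card_fixedPoints V
  -- the fixed points
  let W : Subgroup V := { carrier := {v | α v = v}, mul_mem' := fun {a b} ha hb => by
                            rw [Set.mem_ofPred_eq] at *; rw [map_mul, ha, hb],
                          one_mem' := map_one _, inv_mem' := fun {a} ha => by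
                            rw [Set.mem_ofPred_eq] at *; rw [map_inv, ha] }
  have hW : MulAction.fixedPoints ↥(Subgroup.zpowers α) V = (W : Set V) := by
    ext v
    constructor
    · intro hv
      exact hv ⟨α, Subgroup.mem_zpowers α⟩
    · rintro hv ⟨x, hx⟩
      have h1 : Subgroup.zpowers α ≤ MulAction.stabilizer (MulAut V) v := by
        rw [Subgroup.zpowers_le]
        exact hv
      exact h1 hx
  rw [hW] at hmod
  have hWd : Nat.card W ∣ p ^ a := by rw [← hV]; exact W.card_subgroup_dvd_card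
  obtain ⟨b, hb, hWb⟩ := (Nat.dvd_prime_pow hp).1 hWd
  have hmod' : p ^ a ≡ p ^ b [MOD u] := by
    rw [hV] at hmod
    have : Nat.card ((W : Set V) : Type _) = p ^ b := hWb
    rwa [this] at hmod
  have hdvd : u ∣ p ^ a - p ^ b := (Nat.modEq_iff_dvd' (Nat.pow_le_pow_right hp.pos hb)).1 hmod'.symm
  have he : p ^ a - p ^ b = p ^ b * (p ^ (a - b) - 1) := by
    rw [Nat.mul_sub, mul_one, ← pow_add, Nat.add_sub_cancel' hb]
  rw [he, hu.dvd_mul] at hdvd
  have hab : a = b := by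
    rcases hdvd with h1 | h1
    · exact absurd ((Nat.prime_dvd_prime_iff_eq hu hp).1 (hu.dvd_of_dvd_pow h1)) hup
    · by_contra hne
      exact h (a - b) (by omega) (by omega) h1
  have htop : W = ⊤ := by
    refine Subgroup.eq_top_of_card_eq W ?_
    rw [hV, hWb, hab]
  ext v
  have : v ∈ W := by rw [htop]; trivial
  exact this

/-- the prime `u` does not divide `|N(V)|` -/
theorem not_dvd_card_normalizer {G : Type*} [Group G] [Finite G] {V : Subgroup G} {u a e : ℕ} (hu : H436.Prim 2 e u)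
    (hV : Nat.card V = 2 ^ a) (ha : a < e) (hC : IsPGroup 2 ↥(Subgroup.centralizer (V : Set G))) :
    ¬ u ∣ Nat.card ↥(Subgroup.normalizer (V : Set G)) := by
  intro hdvd
  have := Fact.mk hu.prime
  have hu2 : u ≠ 2 := fun h => hu.not_dvd (by rw [h])
  obtain ⟨x, hx⟩ := exists_prime_orderOf_dvd_card' u hdvd
  have h1 : V.normalizerMonoidHom x = 1 := by
    refine aut_eq_one Nat.prime_two hu.prime hu2 hV (fun k h1 h2 h3 => ?_) _ ?_
    · have := Nat.le_of_dvd (by omega) ((hu.dvd_iff k).1 h3)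
      omega
    · rw [← map_pow, ← hx, pow_orderOf_eq_one, map_one]
  have h2 : (x : G) ∈ Subgroup.centralizer (V : Set G) := by
    have h3 : x ∈ V.normalizerMonoidHom.ker := h1
    rw [Subgroup.normalizerMonoidHom_ker] at h3
    exact h3
  obtain ⟨k, hk⟩ := hC ⟨x, h2⟩
  have h4 : (x : G) ^ 2 ^ k = 1 := congrArg Subtype.val hk
  have h5 : x ^ 2 ^ k = 1 := Subtype.ext h4
  have h6 : u ∣ 2 ^ k := by rw [← hx]; exact orderOf_dvd_of_pow_eq_one h5
  exact hu2 ((Nat.prime_dvd_prime_iff_eq hu.prime Nat.prime_two).1 (hu.prime.dvd_of_dvd_pow h6))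

namespace TwF4Par

open Cfsg.Agent.KFacts.TwF4 Cfsg.Agent.KFacts.TwF4.Full Cfsg.Agent.KFacts.TwF4.Arc
open Cfsg.Agent.KFacts.TwF4.Inv Cfsg.Agent.KFacts.TwF4.SylU
open Cfsg.Agent.SplitTwo Cfsg.Agent.SplitTwo.ZS Cfsg.Agent.TitsThree.RankTwoZ
open Cfsg.Agent.SplitTwo.RootSysZ Cfsg Cfsg.Lie
open Cfsg.Agent.Nodes.Reps (cj mem_cj conj_mem_cj cj_mul cj_cj_inv cj_inv_cj cj_mono cj_le_cj_iff cj_one)

universe u

variable {F : Type*} [Field F] {σ : F →+* F} {G : Type u} [Group G] {S : Full σ G}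

/-- the conjugate of a proper subgroup of index not divisible by `4` in a maximal parabolic subgroup -/
theorem exists_conj_le_norm [Finite F] [Finite G] (hF : ∃ c : Fˣ, c ≠ 1) (hR : S.R.p = 2) {M : Subgroup G}
    (hM : M ≠ ⊤) (hidx : ¬ 2 ^ 2 ∣ M.index) : ∃ g : G, cj g M ≤ Subgroup.normalizer (J S.XZ 2 8 : Set G) ∨
      cj g M ≤ Subgroup.normalizer (J S.XZ 1 7 : Set G) := by
  have hfact : Fact (Nat.Prime 2) := ⟨Nat.prime_two⟩
  have hU2 : IsPGroup 2 (J S.XZ 1 8) := isPGroup_J S.zsys8 (two_X S hR) 8 1 8 (by norm_num) (by norm_num)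
  obtain ⟨Sy, hSy⟩ := exists_sylow S hF hR
  have hUi : ¬ 2 ∣ (J S.XZ 1 8).index := by
    rw [← hSy]
    exact Sy.not_dvd_index
  have hcjidx : ∀ (x : G) (A : Subgroup G), (cj x A).index = A.index := fun x A =>
    Subgroup.index_map_equiv A (MulAut.conj x)
  by_cases hpi : 2 ∣ M.index
  · obtain ⟨g, h1, h2⟩ := H396.exists_conj_index hU2 hUi hpi hidx
    exact ⟨g, le_norm (S := S) (P := cj g M) ⟨hU2, h1, h2⟩ hF⟩
  · obtain ⟨g, hg⟩ := H248.Ovg.exists_conj_le hU2 hpi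
    have hU : J S.XZ 1 8 ≤ cj g⁻¹ M := by
      rw [← cj_le_cj_iff g, cj_cj_inv]; exact hg
    have hU' : J S.XZ 1 8 ⊓ ⊤ ≤ cj g⁻¹ M := by rwa [inf_top_eq]
    refine ⟨g⁻¹, (Cfsg.Agent.H248.TwF4Over.overgroup (Cfsg.Agent.H248.TwF4Over.cond_top S) hU').resolve_left fun h => ?_⟩
    have h3 : (cj g⁻¹ M).index = 1 := by rw [top_le_iff.1 h, Subgroup.index_top]
    rw [hcjidx, Subgroup.index_eq_one] at h3
    exact hM h3

theorem J28_lt : J S.XZ 2 8 < J S.XZ 1 8 := by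
  refine lt_of_le_of_ne (J_mono (by norm_num) (by norm_num)) fun h => ?_
  refine S.zsys8.ne_bot 1 ((Subgroup.eq_bot_iff_forall _).2 fun x hx => ?_)
  have h1 : x ∈ J S.XZ 1 8 := mem_J hx (by norm_num) (by norm_num)
  rw [← h] at h1
  exact S.zsys8.inter 1 x hx (J_mono (by norm_num) (by norm_num) h1)

theorem J17_lt : J S.XZ 1 7 < J S.XZ 1 8 := by
  refine lt_of_le_of_ne (J_mono (by norm_num) (by norm_num)) fun h => ?_
  refine S.zsys8.ne_bot 8 ((Subgroup.eq_bot_iff_forall _).2 fun x hx => ?_)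
  have h1 : x ∈ J S.XZ 1 8 := mem_J hx (by norm_num) (by norm_num)
  rw [← h] at h1
  exact S.zsys8.inter' (k := 8) hx (J_mono (by norm_num) (by norm_num) h1)

theorem cent28 [Finite F] [Finite G] (hR : S.R.p = 2) : IsPGroup 2 ↥(Subgroup.centralizer (J S.XZ 2 8 : Set G)) := by
  have h1 : IsPGroup 2 (J S.XZ 1 8) := isPGroup_J S.zsys8 (two_X S hR) 8 1 8 (by norm_num) (by norm_num)
  refine h1.to_le ?_
  rw [S.centralizer_J28]
  rintro _ ⟨u, v, rfl⟩
  exact mul_mem (e_U 2 (by decide) _ _) (e_U 3 (by decide) _ _)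

theorem cent17 [Finite F] [Finite G] (hR : S.R.p = 2) : IsPGroup 2 ↥(Subgroup.centralizer (J S.XZ 1 7 : Set G)) := by
  have h1 : IsPGroup 2 (J S.XZ 1 8) := isPGroup_J S.zsys8 (two_X S hR) 8 1 8 (by norm_num) (by norm_num)
  refine h1.to_le ?_
  have h2 : Subgroup.centralizer (J S.XZ 1 7 : Set G) = S.Zc 2 := S.centralizer_Q
  rw [h2]
  rintro _ ⟨u, rfl⟩
  exact e_U 2 (by decide) _ _

/-- the order of a `2`-subgroup below `U` -/
theorem card_lt [Finite F] [Finite G] {N e : ℕ} (hcard : Nat.card G = 2 ^ e * N) (hN : ¬ 2 ∣ N) (hR : S.R.p = 2)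
    {V : Subgroup G} (hV : V < J S.XZ 1 8) : ∃ a, a < e ∧ Nat.card V = 2 ^ a := by
  have hfact : Fact (Nat.Prime 2) := ⟨Nat.prime_two⟩
  have h1 : IsPGroup 2 (J S.XZ 1 8) := isPGroup_J S.zsys8 (two_X S hR) 8 1 8 (by norm_num) (by norm_num)
  obtain ⟨a, ha⟩ := (h1.to_le hV.le).exists_card_eq
  obtain ⟨b, hb⟩ := h1.exists_card_eq
  refine ⟨a, ?_, ha⟩
  have h2 : b ≤ e := by
    have h3 : 2 ^ b ∣ 2 ^ e * N := by rw [← hcard, ← hb]; exact Subgroup.card_subgroup_dvd_card _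
    have h4 : Nat.Coprime (2 ^ b) N := ((Nat.Prime.coprime_iff_not_dvd Nat.prime_two).2 hN).pow_left b
    exact (Nat.pow_dvd_pow_iff_le_right (by norm_num)).1 (h4.dvd_of_dvd_mul_right h3)
  have h5 : Nat.card V < Nat.card ↥(J S.XZ 1 8) := by
    refine lt_of_le_of_ne (Nat.card_le_card_of_injective _ (Subgroup.inclusion_injective hV.le)) fun h => ?_
    exact hV.ne (Subgroup.eq_of_le_of_card_ge hV.le h.ge)
  rw [ha, hb] at h5
  have h6 := (Nat.pow_lt_pow_iff_right (by norm_num : 1 < 2)).1 h5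
  omega

end TwF4Par

open Cfsg Cfsg.Lie Cfsg.Agent.Nodes.Reps in
/-- subgroups `M` of index not divisible by `4` in `²F₄(q)`: a primitive prime of `q ^ 12 - 1` does not divide `|M|` -/
theorem exists_prime_2F4 {T : Type*} [Group T] [Finite T] (h : Cfsg.Lie.Iso2F4 T) : ∃ u : ℕ, u.Prime ∧
    u ∣ Nat.card T ∧ ∀ M : Subgroup T, M ≠ ⊤ → ¬ 2 ^ 2 ∣ M.index → ¬ u ∣ Nat.card M := by
  obtain ⟨F, i1, i2, m, φ, S, hm, hK, ⟨e⟩, hR, hfin, hF⟩ := exists_full h
  obtain ⟨u, hu⟩ := H436.exists_prim (q := 2) (e := 12 * (2 * m + 1)) le_rfl (by omega) (by omega)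
  have hc := S1068.result hK
  have hcT : Nat.card T = Nat.card ↥(twistedF4 F (2 ^ m)) := Nat.card_congr e.toEquiv
  set G := ↥(twistedF4 F (2 ^ m)) with hG
  have hu6 : u ∣ (2 ^ (2 * m + 1)) ^ 6 + 1 := by
    have := hu.dvd_add (m := (2 * m + 1) * 6) ⟨1, by ring⟩ (fun h1 => by
      have := Nat.le_of_dvd (by omega) h1
      omega)
    rwa [pow_mul] at this
  refine ⟨u, hu.prime, ?_, ?_⟩
  · rw [hcT, hc]
    exact Dvd.dvd.mul_left hu6 _
  · intro M hM hidx hdvd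
    have hMm : M.map e.toMonoidHom ≠ ⊤ := fun h1 => by
      have h2 : (M.map e.toMonoidHom).index = 1 := by rw [h1, Subgroup.index_top]
      rw [show (M.map e.toMonoidHom).index = M.index from Subgroup.index_map_equiv M e, Subgroup.index_eq_one] at h2
      exact hM h2
    have hMi : ¬ 2 ^ 2 ∣ (M.map e.toMonoidHom).index := by
      rwa [show (M.map e.toMonoidHom).index = M.index from Subgroup.index_map_equiv M e]
    obtain ⟨g, hg⟩ := TwF4Par.exists_conj_le_norm (S := S) hF hR hMm hMi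
    have hcard : Nat.card ↥(cj g (M.map e.toMonoidHom)) = Nat.card M := by
      have h1 : Nat.card ↥(cj g (M.map e.toMonoidHom)) = Nat.card ↥(M.map e.toMonoidHom) :=
        Nat.card_congr ((M.map e.toMonoidHom).equivMapOfInjective (MulAut.conj g).toMonoidHom
          (MulAut.conj g).injective).toEquiv.symm
      rw [h1]
      exact Nat.card_congr (M.equivMapOfInjective e.toMonoidHom e.injective).toEquiv.symm
    rw [← hcard] at hdvd
    have hc' : Nat.card G = 2 ^ (12 * (2 * m + 1)) * ((2 ^ (2 * m + 1) - 1) * ((2 ^ (2 * m + 1)) ^ 3 + 1) *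
        ((2 ^ (2 * m + 1)) ^ 4 - 1) * ((2 ^ (2 * m + 1)) ^ 6 + 1)) := by
      rw [hc, ← pow_mul, mul_comm 12]
      ring
    have hodd : ¬ 2 ∣ ((2 ^ (2 * m + 1) - 1) * ((2 ^ (2 * m + 1)) ^ 3 + 1) *
        ((2 ^ (2 * m + 1)) ^ 4 - 1) * ((2 ^ (2 * m + 1)) ^ 6 + 1)) := by
      have hq : 2 ∣ 2 ^ (2 * m + 1) := dvd_pow_self 2 (by omega)
      have hq1 : 1 ≤ 2 ^ (2 * m + 1) := Nat.one_le_two_pow
      have a3 : 2 ∣ (2 ^ (2 * m + 1)) ^ 3 := dvd_pow hq (by norm_num)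
      have a4 : 2 ∣ (2 ^ (2 * m + 1)) ^ 4 := dvd_pow hq (by norm_num)
      have a6 : 2 ∣ (2 ^ (2 * m + 1)) ^ 6 := dvd_pow hq (by norm_num)
      have b4 : 1 ≤ (2 ^ (2 * m + 1)) ^ 4 := Nat.one_le_pow _ _ (by omega)
      rw [Nat.prime_two.dvd_mul, Nat.prime_two.dvd_mul, Nat.prime_two.dvd_mul]
      omega
    rcases hg with hg | hg
    · obtain ⟨a, ha, hVa⟩ := TwF4Par.card_lt hc' hodd hR (TwF4Par.J28_lt (S := S))
      exact not_dvd_card_normalizer hu hVa ha (TwF4Par.cent28 hR) (hdvd.trans (Subgroup.card_dvd_of_le hg))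
    · obtain ⟨a, ha, hVa⟩ := TwF4Par.card_lt hc' hodd hR (TwF4Par.J17_lt (S := S))
      exact not_dvd_card_normalizer hu hVa ha (TwF4Par.cent17 hR) (hdvd.trans (Subgroup.card_dvd_of_le hg))

/-- **`SQ` for `²F₄(q)`, `q ≥ 8`** -/
theorem sq_2F4' {T : Type*} [Group T] [Finite T] (h : Cfsg.Lie.Iso2F4 T) : Cfsg.Agent.H396.SQ T := by
  obtain ⟨u, hu, hT, hM⟩ := exists_prime_2F4 h
  intro M hM1 hsq
  refine Or.inl (H396.der_of_prime hu hT (hM M hM1 fun h4 => ?_))
  have := hsq 2 (by rwa [pow_two] at h4)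
  simp at this

/-- the form asked for in task 295 -/
theorem sq_2F4 {T : Type*} [Group T] [Finite T] (h : Cfsg.Lie.Iso2F4 T) (_ : Cfsg.Agent.H396.Par 2 T) :
    Cfsg.Agent.H396.SQ T := sq_2F4' h

end Cfsg.Agent.H187
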