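import Cfsg.Agent.H174.CentCard
import Cfsg.Agent.H186.UnipGU
import Cfsg.Agent.S0277

/-!
# Centralisers of unipotent elements of the finite unitary groups (helper187)

`K` a field with `q ^ 2` elements, `J = jordanTypeMatrix d K`.  There is an invertible hermitian matrix `H`, block
diagonal along `J`, for which `J` is unitary; the adjoint `M ↦ H⁻¹ * st q M * H` preserves the centraliser algebra
of `J` and induces `N ↦ st q N` on its semisimple quotient `∏ M_{a_i}(K)`.  A count (Lang's theorem replaced by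
`exists_norm_adjoin`) gives the number of elements of the centraliser which are unitary for `H`.
-/

set_option autoImplicit false
open Cfsg Matrix

namespace Cfsg.Agent.H187

open Cfsg.Agent.H186 Cfsg.Agent.H174

section Forms

variable {K : Type*} [Field K] [Fintype K] {q : ℕ}

theorem jordanBlock_sub_one_pow (K : Type*) [Field K] (n s : ℕ) (i j : Fin n)
    (h : (i : ℕ) < j + s) : ((Cfsg.jordanBlock n K - 1) ^ s) i j = 0 := by
  induction s generalizing i j with
  | zero => rw [pow_zero, Matrix.one_apply_ne (by intro h'; subst h'; omega)]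
  | succ s ih =>
    rw [pow_succ, Matrix.mul_apply]
    refine Finset.sum_eq_zero fun k _ => ?_
    by_cases hk : (i : ℕ) < k + s
    · rw [ih i k hk, zero_mul]
    · have hkj : (k : ℕ) ≤ j := by omega
      have : (Cfsg.jordanBlock n K - 1) k j = 0 := by
        rw [Matrix.sub_apply, Cfsg.jordanBlock, Matrix.of_apply]
        by_cases h2 : k = j
        · subst h2; simp
        · rw [if_neg (fun h' => h2 (Fin.ext h')), if_neg (by omega), Matrix.one_apply_ne h2, sub_zero]
      rw [this, mul_zero]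

theorem jordanBlock_det (K : Type*) [Field K] (n : ℕ) : (Cfsg.jordanBlock n K).det = 1 := by
  rw [Matrix.det_of_isLowerTriangular]
  · simp [Cfsg.jordanBlock]
  · intro i j hij
    simp only [Cfsg.jordanBlock, Matrix.of_apply]
    have : (i : ℕ) < j := hij
    rw [if_neg (by omega), if_neg (by omega)]

/-- A hermitian form for which the Jordan block is unitary. -/
theorem exists_form (hK : Fintype.card K = q ^ 2) (n : ℕ) : ∃ P : Matrix (Fin n) (Fin n) K,
    IsUnit P ∧ st q P = P ∧ st q (Cfsg.jordanBlock n K) * P * Cfsg.jordanBlock n K = P := by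
  have hu : IsUnit (Cfsg.jordanBlock n K) := by
    rw [Matrix.isUnit_iff_isUnit_det, jordanBlock_det]; exact isUnit_one
  obtain ⟨J, hJ⟩ := hu
  have hnil : IsNilpotent ((J : Matrix (Fin n) (Fin n) K) - 1) := by
    refine ⟨n, ?_⟩
    ext i j
    rw [hJ, jordanBlock_sub_one_pow K n n i j (by have := i.2; omega), Matrix.zero_apply]
  obtain ⟨B, hB⟩ := exists_gu_unip hK J hnil
  rw [isConj_iff] at hB
  obtain ⟨x, hx⟩ := hB
  have hx' : (x : Matrix (Fin n) (Fin n) K) * Cfsg.jordanBlock n K =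
      ((B : GL (Fin n) K) : Matrix (Fin n) (Fin n) K) * (x : Matrix (Fin n) (Fin n) K) := by
    have h1 : x * J = (B : GL (Fin n) K) * x := by rw [← hx]; group
    rw [← hJ]
    exact congrArg Units.val h1
  have hB2 := (mem_GU_iff_st hK _).1 B.2
  refine ⟨st q (x : Matrix (Fin n) (Fin n) K) * (x : Matrix (Fin n) (Fin n) K), ?_, ?_, ?_⟩
  · refine IsUnit.mul ⟨⟨st q (x : Matrix (Fin n) (Fin n) K),
      st q ((x⁻¹ : (Matrix (Fin n) (Fin n) K)ˣ) : Matrix (Fin n) (Fin n) K), ?_, ?_⟩, rfl⟩ x.isUnit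
    · rw [← st_mul hK, Units.inv_mul, st_one hK]
    · rw [← st_mul hK, Units.mul_inv, st_one hK]
  · rw [st_mul hK, st_st hK]
  · rw [← mul_assoc, ← st_mul hK, mul_assoc, hx', st_mul hK, mul_assoc,
      ← mul_assoc (st q ((B : GL (Fin n) K) : Matrix (Fin n) (Fin n) K)), hB2, one_mul]

end Forms

section Blocks

variable {K : Type*} [Field K] [Fintype K] {q : ℕ} (hK : Fintype.card K = q ^ 2)
  (P : ∀ n : ℕ, Matrix (Fin n) (Fin n) K) {t : ℕ} (d : Fin t → ℕ)

/-- the form on the whole space -/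
def HH : Matrix ((k : Fin t) × Fin (d k)) ((k : Fin t) × Fin (d k)) K :=
  Matrix.blockDiagonal' fun k => P (d k)

/-- its inverse -/
noncomputable def HI : Matrix ((k : Fin t) × Fin (d k)) ((k : Fin t) × Fin (d k)) K :=
  Matrix.blockDiagonal' fun k => (P (d k))⁻¹

variable {P}

omit [Fintype K] in
theorem HI_mul_HH (hP : ∀ n, IsUnit (P n)) : HI P d * HH P d = 1 := by
  rw [HI, HH, ← Matrix.blockDiagonal'_mul]
  have : (fun k : Fin t => (P (d k))⁻¹ * P (d k)) = 1 := by
    funext k
    exact Matrix.nonsing_inv_mul _ ((Matrix.isUnit_iff_isUnit_det _).1 (hP _))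
  rw [this, Matrix.blockDiagonal'_one]

omit [Fintype K] in
theorem HH_mul_HI (hP : ∀ n, IsUnit (P n)) : HH P d * HI P d = 1 := mul_eq_one_comm.1 (HI_mul_HH d hP)

include hK in
theorem st_blockDiagonal' (M : ∀ k : Fin t, Matrix (Fin (d k)) (Fin (d k)) K) :
    st q (Matrix.blockDiagonal' M) = Matrix.blockDiagonal' fun k => st q (M k) := by
  have hq := ClassicalGeometry.GUBasic.two_le hK
  rw [st, Matrix.blockDiagonal'_map _ (fun x : K => x ^ q) (zero_pow (by omega)),
    Matrix.blockDiagonal'_transpose]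
  rfl

include hK in
theorem st_HH (hPs : ∀ n, st q (P n) = P n) : st q (HH P d) = HH P d := by
  rw [HH, st_blockDiagonal' hK]
  congr 1
  funext k
  exact hPs _

include hK in
theorem st_J_HH_J (hPJ : ∀ n, st q (Cfsg.jordanBlock n K) * P n * Cfsg.jordanBlock n K = P n) :
    st q (Cfsg.jordanTypeMatrix d K) * HH P d * Cfsg.jordanTypeMatrix d K = HH P d := by
  rw [HH, Cfsg.jordanTypeMatrix, st_blockDiagonal' hK, ← Matrix.blockDiagonal'_mul, ← Matrix.blockDiagonal'_mul]
  congr 1
  funext k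
  exact hPJ _

variable (q P)

/-- the adjoint for the form -/
noncomputable def sta (M : Matrix ((k : Fin t) × Fin (d k)) ((k : Fin t) × Fin (d k)) K) :
    Matrix ((k : Fin t) × Fin (d k)) ((k : Fin t) × Fin (d k)) K := HI P d * st q M * HH P d

variable {q P d}

include hK in
theorem sta_add (M N : Matrix ((k : Fin t) × Fin (d k)) ((k : Fin t) × Fin (d k)) K) :
    sta q P d (M + N) = sta q P d M + sta q P d N := by
  rw [sta, st_add hK, mul_add, add_mul]; rfl

include hK in
theorem sta_mul (hP : ∀ n, IsUnit (P n)) (M N : Matrix ((k : Fin t) × Fin (d k)) ((k : Fin t) × Fin (d k)) K) :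
    sta q P d (M * N) = sta q P d N * sta q P d M := by
  have h : HH P d * HI P d = 1 := HH_mul_HI d hP
  calc sta q P d (M * N) = HI P d * (st q N * 1 * st q M) * HH P d := by rw [sta, st_mul hK, mul_one]
    _ = sta q P d N * sta q P d M := by rw [← h]; simp only [sta, mul_assoc]

include hK in
theorem sta_sta (hP : ∀ n, IsUnit (P n)) (hPs : ∀ n, st q (P n) = P n)
    (M : Matrix ((k : Fin t) × Fin (d k)) ((k : Fin t) × Fin (d k)) K) : sta q P d (sta q P d M) = M := by
  have h : HH P d * HI P d = 1 := HH_mul_HI d hP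
  have h' : HI P d * HH P d = 1 := HI_mul_HH d hP
  have h1 : st q (HH P d) = HH P d := st_HH hK d hPs
  have h2 : st q (HI P d) = HI P d := by
    have h3 : st q (HI P d) * HH P d = 1 := by
      rw [← h1, ← st_mul hK, h, st_one hK]
    calc st q (HI P d) = st q (HI P d) * (HH P d * HI P d) := by rw [h, mul_one]
      _ = HI P d := by rw [← mul_assoc, h3, one_mul]
  calc sta q P d (sta q P d M) = HI P d * (st q (HH P d) * M * st q (HI P d)) * HH P d := by
        rw [sta, sta, st_mul hK, st_mul hK, st_st hK]; simp only [mul_assoc]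
    _ = (HI P d * HH P d) * M * (HI P d * HH P d) := by rw [h1, h2]; simp only [mul_assoc]
    _ = M := by rw [h', one_mul, mul_one]

include hK in
theorem sta_one (hP : ∀ n, IsUnit (P n)) : sta q P d 1 = 1 := by
  rw [sta, st_one hK, mul_one, HI_mul_HH d hP]

theorem sta_smul (c : K) (M : Matrix ((k : Fin t) × Fin (d k)) ((k : Fin t) × Fin (d k)) K) :
    sta q P d (c • M) = c ^ q • sta q P d M := by
  rw [sta, st_smul, mul_smul_comm, smul_mul_assoc]; rfl

include hK in
theorem sta_algebraMap (hP : ∀ n, IsUnit (P n)) (c : K) :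
    sta q P d (algebraMap K _ c) = algebraMap K _ (c ^ q) := by
  rw [Algebra.algebraMap_eq_smul_one, Algebra.algebraMap_eq_smul_one, sta_smul, sta_one hK hP]

include hK in
theorem sta_comm (hP : ∀ n, IsUnit (P n))
    (hPJ : ∀ n, st q (Cfsg.jordanBlock n K) * P n * Cfsg.jordanBlock n K = P n)
    {M : Matrix ((k : Fin t) × Fin (d k)) ((k : Fin t) × Fin (d k)) K}
    (hM : M * Cfsg.jordanTypeMatrix d K = Cfsg.jordanTypeMatrix d K * M) :
    sta q P d M * Cfsg.jordanTypeMatrix d K = Cfsg.jordanTypeMatrix d K * sta q P d M := by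
  have h1 : sta q P d (Cfsg.jordanTypeMatrix d K) * Cfsg.jordanTypeMatrix d K = 1 := by
    have h2 := st_J_HH_J hK d hPJ
    rw [sta, mul_assoc, mul_assoc, ← mul_assoc (st q _), h2, HI_mul_HH d hP]
  have h3 : Cfsg.jordanTypeMatrix d K * sta q P d (Cfsg.jordanTypeMatrix d K) = 1 := mul_eq_one_comm.1 h1
  have h4 := congrArg (sta q P d) hM
  rw [sta_mul hK hP, sta_mul hK hP] at h4
  set J := Cfsg.jordanTypeMatrix d K
  set J' := sta q P d J
  set X := sta q P d M
  calc X * J = (J * J') * X * J := by rw [h3, one_mul]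
    _ = J * (J' * X) * J := by simp only [mul_assoc]
    _ = J * X * (J' * J) := by rw [h4]; simp only [mul_assoc]
    _ = J * X := by rw [h1, mul_one]

/-- the `(l, k)` block of a matrix, `d l = d k = i` -/
def Tb (i : ℕ) (M : Matrix ((k : Fin t) × Fin (d k)) ((k : Fin t) × Fin (d k)) K) (l k : {k // d k = i}) :
    Matrix (Fin i) (Fin i) K := fun a b => M ⟨l.1, Fin.cast l.2.symm a⟩ ⟨k.1, Fin.cast k.2.symm b⟩

omit [Fintype K] in
theorem Tb_bd_mul (B : ∀ n : ℕ, Matrix (Fin n) (Fin n) K) (i : ℕ)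
    (X : Matrix ((k : Fin t) × Fin (d k)) ((k : Fin t) × Fin (d k)) K) (l k : {k // d k = i}) :
    Tb i ((Matrix.blockDiagonal' fun k => B (d k)) * X) l k = B i * Tb i X l k := by
  ext a b
  obtain ⟨l, rfl⟩ := l
  rw [Tb, Matrix.mul_apply, Matrix.mul_apply, Fintype.sum_sigma, Finset.sum_eq_single l]
  · refine Finset.sum_congr rfl fun j _ => ?_
    rw [Matrix.blockDiagonal'_apply_eq]
    rfl
  · intro x _ hx
    refine Finset.sum_eq_zero fun j _ => ?_
    rw [Matrix.blockDiagonal'_apply_ne _ _ _ hx.symm, zero_mul]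
  · intro h; exact absurd (Finset.mem_univ _) h

omit [Fintype K] in
theorem Tb_mul_bd (B : ∀ n : ℕ, Matrix (Fin n) (Fin n) K) (i : ℕ)
    (X : Matrix ((k : Fin t) × Fin (d k)) ((k : Fin t) × Fin (d k)) K) (l k : {k // d k = i}) :
    Tb i (X * (Matrix.blockDiagonal' fun k => B (d k))) l k = Tb i X l k * B i := by
  ext a b
  obtain ⟨k, rfl⟩ := k
  rw [Tb, Matrix.mul_apply, Matrix.mul_apply, Fintype.sum_sigma, Finset.sum_eq_single k]
  · refine Finset.sum_congr rfl fun j _ => ?_
    rw [Matrix.blockDiagonal'_apply_eq]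
    rfl
  · intro x _ hx
    refine Finset.sum_eq_zero fun j _ => ?_
    rw [Matrix.blockDiagonal'_apply_ne _ _ _ hx, mul_zero]
  · intro h; exact absurd (Finset.mem_univ _) h

omit [Fintype K] in
theorem Tb_sta (i : ℕ) (M : Matrix ((k : Fin t) × Fin (d k)) ((k : Fin t) × Fin (d k)) K)
    (l k : {k // d k = i}) : Tb i (sta q P d M) l k = (P i)⁻¹ * st q (Tb i M k l) * P i := by
  rw [sta, HH, Tb_mul_bd, HI, Tb_bd_mul (fun n => (P n)⁻¹)]
  rfl

omit [Fintype K] in
theorem det_Tb_sub (hd : ∀ k, 1 ≤ d k) {M : Matrix ((k : Fin t) × Fin (d k)) ((k : Fin t) × Fin (d k)) K}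
    (hM : M * Cfsg.jordanTypeMatrix d K = Cfsg.jordanTypeMatrix d K * M) (i : ℕ) (l k : {k // d k = i}) (c : K) :
    (Tb i M l k - c • (1 : Matrix (Fin i) (Fin i) K)).det = (blk hd M i l k - c) ^ i := by
  have hT : ∀ a b : Fin i, Tb i M l k a b = if (b : ℕ) ≤ a then ent M l.1 k.1 ((a : ℕ) - b) 0 else 0 := by
    intro a b
    have ha := a.2
    have hb := b.2
    have hl := l.2
    have hk := k.2
    have h := (comm_iff M).1 hM l.1 k.1 a b (by omega) (by omega)
    rw [ent_of M (by omega) (by omega)] at h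
    exact h
  rw [Matrix.det_of_isLowerTriangular]
  · rw [Finset.prod_congr rfl (g := fun _ => blk hd M i l k - c), Finset.prod_const, Finset.card_univ,
      Fintype.card_fin]
    intro a _
    rw [Matrix.sub_apply, hT, if_pos le_rfl, Nat.sub_self, ent_of M (hd _) (hd _), Matrix.smul_apply,
      Matrix.one_apply_eq, smul_eq_mul, mul_one]
    rfl
  · intro a b hab
    have hab' : (a : ℕ) < b := hab
    rw [Matrix.sub_apply, hT, if_neg (by omega), Matrix.smul_apply,
      Matrix.one_apply_ne (fun h : a = b => by subst h; omega), smul_zero, sub_zero]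

include hK in
theorem det_st {n : ℕ} (M : Matrix (Fin n) (Fin n) K) : (st q M).det = M.det ^ q := by
  obtain ⟨σ, hσ⟩ := ClassicalGeometry.GUBasic.exists_powHom hK
  have : M.map (fun x => x ^ q) = σ.mapMatrix M := by
    ext i j
    simp [hσ]
  rw [st, Matrix.det_transpose, this, ← RingHom.map_det, hσ]

include hK in
theorem blk_sta (hd : ∀ k, 1 ≤ d k) (hP : ∀ n, IsUnit (P n))
    (hPJ : ∀ n, st q (Cfsg.jordanBlock n K) * P n * Cfsg.jordanBlock n K = P n)
    {M : Matrix ((k : Fin t) × Fin (d k)) ((k : Fin t) × Fin (d k)) K}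
    (hM : M * Cfsg.jordanTypeMatrix d K = Cfsg.jordanTypeMatrix d K * M) (i : ℕ) :
    blk hd (sta q P d M) i = st q (blk hd M i) := by
  have hq := ClassicalGeometry.GUBasic.two_le hK
  ext l k
  rw [st_apply]
  have hi : i ≠ 0 := by
    have h1 := hd l.1
    have h2 := l.2
    omega
  have h1 := det_Tb_sub hd hM i k l (blk hd M i k l)
  rw [sub_self, zero_pow hi] at h1
  have h2 := det_Tb_sub hd (sta_comm hK hP hPJ hM) i l k ((blk hd M i k l) ^ q)
  have hu := (Matrix.isUnit_iff_isUnit_det _).1 (hP i)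
  have h3 : Tb i (sta q P d M) l k - (blk hd M i k l) ^ q • (1 : Matrix (Fin i) (Fin i) K) =
      (P i)⁻¹ * st q (Tb i M k l - blk hd M i k l • (1 : Matrix (Fin i) (Fin i) K)) * P i := by
    have h4 : st q (Tb i M k l - blk hd M i k l • (1 : Matrix (Fin i) (Fin i) K)) =
        st q (Tb i M k l) - (blk hd M i k l) ^ q • (1 : Matrix (Fin i) (Fin i) K) := by
      rw [eq_sub_iff_add_eq, ← st_one (q := q) hK, ← st_smul, st_one hK, ← st_add hK, sub_add_cancel]
    rw [h4, mul_sub, sub_mul, Tb_sta, mul_smul_comm, smul_mul_assoc, mul_one, Matrix.nonsing_inv_mul _ hu]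
  rw [h3, Matrix.det_mul, Matrix.det_mul, det_st hK, h1, zero_pow (by omega), mul_zero, zero_mul] at h2
  exact sub_eq_zero.1 (pow_eq_zero_iff hi |>.1 h2.symm)

end Blocks

section Count

variable {K : Type*} [Field K] {t : ℕ} {d : Fin t → ℕ}

open Classical in
/-- the parameters with given leading blocks -/
noncomputable def inv' {S : ℕ} (hS : ∀ k, d k < S)
    {Q : ∀ i : Fin S, Matrix {k // d k = (i : ℕ)} {k // d k = (i : ℕ)} K → Prop}
    (x : (∀ i : Fin S, {N : Matrix {k // d k = (i : ℕ)} {k // d k = (i : ℕ)} K // Q i N}) ×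
      ({p : Par d // ¬ lead p} → K)) (p : Par d) : K :=
  if h : lead p then (x.1 ⟨d p.1, hS _⟩ : Matrix {k // d k = d p.1} {k // d k = d p.1} K)
    ⟨p.1, rfl⟩ ⟨p.2.1, h.1.symm⟩ else x.2 ⟨p, h⟩

theorem blk_inv' (hd : ∀ k, 1 ≤ d k) {S : ℕ} (hS : ∀ k, d k < S)
    {Q : ∀ i : Fin S, Matrix {k // d k = (i : ℕ)} {k // d k = (i : ℕ)} K → Prop}
    (x : (∀ i : Fin S, {N : Matrix {k // d k = (i : ℕ)} {k // d k = (i : ℕ)} K // Q i N}) ×
      ({p : Par d // ¬ lead p} → K)) (i : Fin S) :
    blk hd (mkMat (inv' hS x)) i = (x.1 i : Matrix _ _ K) := by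
  obtain ⟨i, hi⟩ := i
  ext ⟨l, hl⟩ ⟨k, hk⟩
  simp only at hl hk
  subst hl
  rw [blk_mkMat, inv', dif_pos ⟨hk.symm, rfl⟩]
  rfl

/-- The number of elements of the centraliser algebra whose diagonal blocks have given properties. -/
theorem card_blocks [Fintype K] (hd : ∀ k, 1 ≤ d k) {S : ℕ} (hS : ∀ k, d k < S)
    (Q : ∀ i : Fin S, Matrix {k // d k = (i : ℕ)} {k // d k = (i : ℕ)} K → Prop) :
    Nat.card {M : Matrix ((k : Fin t) × Fin (d k)) ((k : Fin t) × Fin (d k)) K //
      M * Cfsg.jordanTypeMatrix d K = Cfsg.jordanTypeMatrix d K * M ∧ ∀ i : Fin S, Q i (blk hd M i)} =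
    (∏ i : Fin S, Nat.card {N : Matrix {k // d k = (i : ℕ)} {k // d k = (i : ℕ)} K // Q i N}) *
      Fintype.card K ^ Nat.card {p : Par d // ¬ lead p} := by
  classical
  let e : {M : Matrix ((k : Fin t) × Fin (d k)) ((k : Fin t) × Fin (d k)) K //
      M * Cfsg.jordanTypeMatrix d K = Cfsg.jordanTypeMatrix d K * M ∧ ∀ i : Fin S, Q i (blk hd M i)} ≃
      (∀ i : Fin S, {N : Matrix {k // d k = (i : ℕ)} {k // d k = (i : ℕ)} K // Q i N}) ×
        ({p : Par d // ¬ lead p} → K) :=
    { toFun := fun M => (fun i => ⟨blk hd M.1 i, M.2.2 i⟩, fun p => toPar hd M.1 p.1)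
      invFun := fun x => ⟨mkMat (inv' hS x), mkMat_comm _, fun i => by
        rw [blk_inv' hd hS x i]; exact (x.1 i).2⟩
      left_inv := fun M => by
        apply Subtype.ext
        change mkMat _ = M.1
        conv_rhs => rw [← mkMat_toPar hd M.2.1]
        congr 1
        funext p
        by_cases h : lead p
        · rw [inv', dif_pos h]
          obtain ⟨l, k, ⟨⟨s, hs⟩, hs'⟩⟩ := p
          have h2 : s = 0 := h.2
          subst h2
          rfl
        · rw [inv', dif_neg h]
      right_inv := fun x => by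
        ext1
        · funext i
          apply Subtype.ext
          exact blk_inv' hd hS x i
        · funext p
          change toPar hd (mkMat (inv' hS x)) p.1 = _
          rw [toPar_mkMat, inv', dif_neg p.2] }
  rw [Nat.card_congr e, Nat.card_prod, Nat.card_pi, Nat.card_fun, Nat.card_eq_fintype_card (α := K)]

theorem cent_zero (hd : ∀ k, 1 ≤ d k) {M : Matrix ((k : Fin t) × Fin (d k)) ((k : Fin t) × Fin (d k)) K}
    (hM : M * Cfsg.jordanTypeMatrix d K = Cfsg.jordanTypeMatrix d K * M) (l x : Fin t) (a : Fin (d x))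
    (h : 0 < (a : ℕ) ∨ d x < d l) : M ⟨l, ⟨0, hd l⟩⟩ ⟨x, a⟩ = 0 := by
  rw [← mkMat_toPar hd hM, mkMat, dif_neg]
  simp only
  omega

theorem blk_mul (hd : ∀ k, 1 ≤ d k) {M N : Matrix ((k : Fin t) × Fin (d k)) ((k : Fin t) × Fin (d k)) K}
    (hM : M * Cfsg.jordanTypeMatrix d K = Cfsg.jordanTypeMatrix d K * M)
    (hN : N * Cfsg.jordanTypeMatrix d K = Cfsg.jordanTypeMatrix d K * N) (i : ℕ) :
    blk hd (M * N) i = blk hd M i * blk hd N i := by
  classical
  ext l k
  rw [blk, Matrix.mul_apply, Matrix.mul_apply, Fintype.sum_sigma]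
  have h1 : ∀ x : Fin t, ∑ a : Fin (d x), M ⟨l.1, ⟨0, hd _⟩⟩ ⟨x, a⟩ * N ⟨x, a⟩ ⟨k.1, ⟨0, hd _⟩⟩ =
      if d x = i then M ⟨l.1, ⟨0, hd _⟩⟩ ⟨x, ⟨0, hd _⟩⟩ * N ⟨x, ⟨0, hd _⟩⟩ ⟨k.1, ⟨0, hd _⟩⟩ else 0 := by
    intro x
    rw [Finset.sum_eq_single ⟨0, hd x⟩]
    · by_cases hx : d x = i
      · rw [if_pos hx]
      · rw [if_neg hx]
        rcases lt_or_gt_of_ne hx with h | h
        · rw [cent_zero hd hM l.1 x _ (Or.inr (by rw [l.2]; exact h)), zero_mul]
        · rw [cent_zero hd hN x k.1 _ (Or.inr (by rw [k.2]; exact h)), mul_zero]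
    · intro a _ ha
      rw [cent_zero hd hM l.1 x a (Or.inl (Nat.pos_of_ne_zero (fun h => ha (Fin.ext h)))), zero_mul]
    · intro h; exact absurd (Finset.mem_univ _) h
  simp_rw [h1]
  rw [← Finset.sum_filter, ← Finset.sum_subtype_eq_sum_filter]
  refine Finset.sum_bij (fun x _ => ⟨x.1, by have := x.2; simpa using this⟩) ?_ ?_ ?_ ?_
  · intro a _; exact Finset.mem_univ _
  · intro a _ b _ h
    exact Subtype.ext (congrArg Subtype.val h)
  · intro b _
    exact ⟨⟨b.1, b.2⟩, by simp, rfl⟩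
  · intro a _; rfl

theorem blk_one (hd : ∀ k, 1 ≤ d k) (i : ℕ) :
    blk hd (1 : Matrix ((k : Fin t) × Fin (d k)) ((k : Fin t) × Fin (d k)) K) i = 1 := by
  ext l k
  rw [blk]
  by_cases h : l = k
  · subst h
    rw [Matrix.one_apply_eq, Matrix.one_apply_eq]
  · rw [Matrix.one_apply_ne h, Matrix.one_apply_ne]
    intro h'
    exact h (Subtype.ext (congrArg Sigma.fst h'))

/-- the centraliser algebra -/
def cA (d : Fin t → ℕ) : Subalgebra K (Matrix ((k : Fin t) × Fin (d k)) ((k : Fin t) × Fin (d k)) K) :=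
  Subalgebra.centralizer K {Cfsg.jordanTypeMatrix d K}

theorem mem_cA {M : Matrix ((k : Fin t) × Fin (d k)) ((k : Fin t) × Fin (d k)) K} :
    M ∈ cA d ↔ M * Cfsg.jordanTypeMatrix d K = Cfsg.jordanTypeMatrix d K * M := by
  rw [cA, Subalgebra.mem_centralizer_iff]
  constructor
  · intro h; exact (h _ rfl).symm
  · rintro h _ rfl; exact h.symm

end Count

section Main

variable {K : Type*} [Field K] [Fintype K] {q : ℕ} (hK : Fintype.card K = q ^ 2)
  {P : ∀ n : ℕ, Matrix (Fin n) (Fin n) K} {t : ℕ} {d : Fin t → ℕ}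

include hK in
theorem sta_sub (M N : Matrix ((k : Fin t) × Fin (d k)) ((k : Fin t) × Fin (d k)) K) :
    sta q P d (M - N) = sta q P d M - sta q P d N := by
  rw [eq_sub_iff_add_eq, ← sta_add hK, sub_add_cancel]

include hK in
theorem card_herm (hd : ∀ k, 1 ≤ d k) {S : ℕ} (hS : ∀ k, d k < S) (hP : ∀ n, IsUnit (P n))
    (hPs : ∀ n, st q (P n) = P n)
    (hPJ : ∀ n, st q (Cfsg.jordanBlock n K) * P n * Cfsg.jordanBlock n K = P n) :
    Nat.card {M : Matrix ((k : Fin t) × Fin (d k)) ((k : Fin t) × Fin (d k)) K //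
      M * Cfsg.jordanTypeMatrix d K = Cfsg.jordanTypeMatrix d K * M ∧ sta q P d M = M ∧
        ∀ i : Fin S, blk hd M i = 0} = q ^ Nat.card {p : Par d // ¬ lead p} := by
  classical
  obtain ⟨σ, hσ⟩ := ClassicalGeometry.GUBasic.exists_powHom hK
  obtain ⟨θ, hθ⟩ := exists_pow_ne hK
  have hθ' : θ - θ ^ q ≠ 0 := fun h => hθ (sub_eq_zero.1 h).symm
  have hθq : (θ - θ ^ q) ^ q = -(θ - θ ^ q) := by
    rw [← hσ, map_sub, hσ, hσ, pow_pow_q hK]; ring
  have hθi : ((θ - θ ^ q)⁻¹) ^ q = -(θ - θ ^ q)⁻¹ := by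
    rw [inv_pow, hθq, inv_neg]
  have hR := card_blocks (K := K) hd hS (fun _ N => N = 0)
  rw [Finset.prod_eq_one (fun i _ => by
    rw [Nat.card_eq_fintype_card]; exact Fintype.card_subtype_eq _), one_mul, hK, ← pow_mul, mul_comm 2,
    pow_mul] at hR
  set J := Cfsg.jordanTypeMatrix d K with hJ
  let f : {M : Matrix ((k : Fin t) × Fin (d k)) ((k : Fin t) × Fin (d k)) K // M * J = J * M ∧ sta q P d M = M ∧
      ∀ i : Fin S, blk hd M i = 0} × {M : Matrix ((k : Fin t) × Fin (d k)) ((k : Fin t) × Fin (d k)) K //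
        M * J = J * M ∧ sta q P d M = M ∧ ∀ i : Fin S, blk hd M i = 0} →
      {M : Matrix ((k : Fin t) × Fin (d k)) ((k : Fin t) × Fin (d k)) K // M * J = J * M ∧
        ∀ i : Fin S, blk hd M i = 0} := fun x => ⟨x.1.1 + θ • x.2.1, by
      rw [add_mul, mul_add, smul_mul_assoc, mul_smul_comm, x.1.2.1, x.2.2.1], fun i => by
      have h1 := x.1.2.2.2 i
      have h2 := x.2.2.2.2 i
      ext l k
      have h1' := congrFun (congrFun h1 l) k
      have h2' := congrFun (congrFun h2 l) k
      simp only [blk, Matrix.zero_apply] at h1' h2' ⊢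
      rw [Matrix.add_apply, Matrix.smul_apply, h1', h2', smul_zero, add_zero]⟩
  have hf : Function.Bijective f := by
    constructor
    · rintro ⟨a, b⟩ ⟨a', b'⟩ h
      have h1 : a.1 + θ • b.1 = a'.1 + θ • b'.1 := congrArg Subtype.val h
      have h2 := congrArg (sta q P d) h1
      rw [sta_add hK, sta_add hK, sta_smul, sta_smul, a.2.2.1, b.2.2.1, a'.2.2.1, b'.2.2.1] at h2
      have h3 : (θ - θ ^ q) • b.1 = (θ - θ ^ q) • b'.1 := by
        rw [sub_smul, sub_smul]
        calc θ • b.1 - θ ^ q • b.1 = (a.1 + θ • b.1) - (a.1 + θ ^ q • b.1) := by abel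
          _ = (a'.1 + θ • b'.1) - (a'.1 + θ ^ q • b'.1) := by rw [h1, h2]
          _ = _ := by abel
      have h4 : b.1 = b'.1 := smul_right_injective _ hθ' h3
      have h5 : a.1 = a'.1 := by
        rw [h4] at h1
        exact add_right_cancel h1
      rw [Prod.mk.injEq]
      exact ⟨Subtype.ext h5, Subtype.ext h4⟩
    · rintro ⟨r, hr, hr'⟩
      have hb : ∀ c : K, ∀ i : Fin S, blk hd (c • (r - sta q P d r)) i = 0 := by
        intro c i
        have h1 : blk hd (sta q P d r) i = 0 := by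
          rw [blk_sta hK hd hP hPJ hr, hr' i]
          ext a b
          rw [st_apply, Matrix.zero_apply, Matrix.zero_apply, zero_pow]
          have := ClassicalGeometry.GUBasic.two_le hK
          omega
        ext l k
        have h1' := congrFun (congrFun h1 l) k
        have h2' := congrFun (congrFun (hr' i) l) k
        simp only [blk, Matrix.zero_apply] at h1' h2' ⊢
        rw [Matrix.smul_apply, Matrix.sub_apply, h1', h2', sub_zero, smul_zero]
      have hs := sta_comm hK hP hPJ hr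
      set b := (θ - θ ^ q)⁻¹ • (r - sta q P d r) with hbdef
      have hbJ : b * J = J * b := by
        rw [hbdef, smul_mul_assoc, mul_smul_comm, sub_mul, mul_sub, hr, hs]
      have hbs : sta q P d b = b := by
        rw [hbdef, sta_smul, sta_sub hK, sta_sta hK hP hPs, hθi, neg_smul, ← smul_neg, neg_sub]
      have hbr : r - sta q P d r = (θ - θ ^ q) • b := by
        rw [hbdef, smul_smul, mul_inv_cancel₀ hθ', one_smul]
      refine ⟨(⟨r - θ • b, ?_, ?_, ?_⟩, ⟨b, hbJ, hbs, hb _⟩), ?_⟩
      · rw [sub_mul, mul_sub, smul_mul_assoc, mul_smul_comm, hbJ, hr]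
      · rw [sta_sub hK, sta_smul, hbs]
        have : sta q P d r = r - (θ - θ ^ q) • b := by rw [← hbr]; abel
        rw [this, sub_smul]
        abel
      · intro i
        ext l k
        have h1' := congrFun (congrFun (hb (θ - θ ^ q)⁻¹ i) l) k
        have h2' := congrFun (congrFun (hr' i) l) k
        rw [← hbdef] at h1'
        simp only [blk, Matrix.zero_apply] at h1' h2' ⊢
        rw [Matrix.sub_apply, Matrix.smul_apply, h1', h2', smul_zero, sub_zero]
      · apply Subtype.ext
        change r - θ • b + θ • b = r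
        abel
  have h1 := Nat.card_eq_of_bijective f hf
  rw [Nat.card_prod, hR, ← sq] at h1
  exact Nat.pow_left_injective (n := 2) two_ne_zero h1

include hK in
/-- The number of elements of the centraliser of `J` which are unitary for `HH P d`. -/
theorem card_unitary (hd : ∀ k, 1 ≤ d k) {S : ℕ} (hS : ∀ k, d k < S) (hP : ∀ n, IsUnit (P n))
    (hPs : ∀ n, st q (P n) = P n)
    (hPJ : ∀ n, st q (Cfsg.jordanBlock n K) * P n * Cfsg.jordanBlock n K = P n) :
    Nat.card {M : Matrix ((k : Fin t) × Fin (d k)) ((k : Fin t) × Fin (d k)) K //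
      M * Cfsg.jordanTypeMatrix d K = Cfsg.jordanTypeMatrix d K * M ∧ sta q P d M * M = 1} =
    (∏ i : Fin S, Nat.card {N : Matrix {k // d k = (i : ℕ)} {k // d k = (i : ℕ)} K // st q N * N = 1}) *
      q ^ Nat.card {p : Par d // ¬ lead p} := by
  classical
  have hq := ClassicalGeometry.GUBasic.two_le hK
  have hX := card_blocks (K := K) hd hS (fun _ N => st q N * N = 1)
  have hR := card_herm hK hd hS hP hPs hPJ
  set J := Cfsg.jordanTypeMatrix d K with hJ
  have hstar : ∀ M, M * J = J * M → ∀ i : ℕ,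
      blk hd (sta q P d M * M) i = st q (blk hd M i) * blk hd M i := by
    intro M hM i
    rw [blk_mul hd (sta_comm hK hP hPJ hM) hM, blk_sta hK hd hP hPJ hM]
  -- the hermitian elements with trivial blocks
  have hY : Nat.card {M : Matrix ((k : Fin t) × Fin (d k)) ((k : Fin t) × Fin (d k)) K //
      M * J = J * M ∧ sta q P d M = M ∧ ∀ i : Fin S, blk hd M i = 1} =
      q ^ Nat.card {p : Par d // ¬ lead p} := by
    rw [← hR]
    refine Nat.card_congr
      { toFun := fun s => ⟨s.1 - 1, by rw [sub_mul, mul_sub, s.2.1, one_mul, mul_one],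
          by rw [sta_sub hK, s.2.2.1, sta_one hK hP], fun i => ?_⟩
        invFun := fun s => ⟨s.1 + 1, by rw [add_mul, mul_add, s.2.1, one_mul, mul_one],
          by rw [sta_add hK, s.2.2.1, sta_one hK hP], fun i => ?_⟩
        left_inv := fun s => Subtype.ext (sub_add_cancel _ _)
        right_inv := fun s => Subtype.ext (add_sub_cancel_right _ _) }
    · have h1 := s.2.2.2 i
      have h2 := blk_one (K := K) hd i
      ext l k
      have h1' := congrFun (congrFun h1 l) k
      have h2' := congrFun (congrFun h2 l) k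
      rw [← h2'] at h1'
      simp only [blk, Matrix.zero_apply] at h1' ⊢
      rw [Matrix.sub_apply, h1', sub_self]
    · have h1 := s.2.2.2 i
      have h2 := blk_one (K := K) hd i
      ext l k
      have h1' := congrFun (congrFun h1 l) k
      have h2' := congrFun (congrFun h2 l) k
      rw [← h2']
      simp only [blk, Matrix.zero_apply] at h1' ⊢
      rw [Matrix.add_apply, h1', zero_add]
  -- square roots
  have hroot : ∀ s : {M : Matrix ((k : Fin t) × Fin (d k)) ((k : Fin t) × Fin (d k)) K //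
      M * J = J * M ∧ sta q P d M = M ∧ ∀ i : Fin S, blk hd M i = 1},
      ∃ c ci : Matrix ((k : Fin t) × Fin (d k)) ((k : Fin t) × Fin (d k)) K,
        c * J = J * c ∧ c * ci = 1 ∧ ci * c = 1 ∧ sta q P d c * c = s.1 := by
    rintro ⟨s, hs1, hs2, hs3⟩
    have hu : IsUnit s := by
      rw [isUnit_iff hd hs1]
      intro i
      by_cases hi : i < S
      · rw [hs3 ⟨i, hi⟩]; exact isUnit_one
      · have : IsEmpty {k // d k = i} := ⟨fun k => hi (k.2 ▸ hS k.1)⟩
        exact isUnit_of_subsingleton _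
    have hfin : Finite (Matrix ((k : Fin t) × Fin (d k)) ((k : Fin t) × Fin (d k)) K) := Matrix.instFinite K
    obtain ⟨c, hc, hcu, hcs⟩ := exists_norm_adjoin (K := K) (sta q P d) (sta_add hK) (sta_mul hK hP)
      (sta_sta hK hP hPs) (fun x => x ^ q) (exists_pow_ne hK) (sta_algebraMap hK hP) s hu hs2
    obtain ⟨c, rfl⟩ := hcu
    exact ⟨c, (c⁻¹ : (Matrix _ _ K)ˣ), (commute_adjoin (K := K) hs1.symm _ hc).symm, Units.mul_inv c,
      Units.inv_mul c, hcs⟩
  choose c ci hcJ hc1 hc2 hcs using hroot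
  let f : {M : Matrix ((k : Fin t) × Fin (d k)) ((k : Fin t) × Fin (d k)) K //
      M * J = J * M ∧ sta q P d M = M ∧ ∀ i : Fin S, blk hd M i = 1} ×
      {M : Matrix ((k : Fin t) × Fin (d k)) ((k : Fin t) × Fin (d k)) K // M * J = J * M ∧ sta q P d M * M = 1} →
      {M : Matrix ((k : Fin t) × Fin (d k)) ((k : Fin t) × Fin (d k)) K // M * J = J * M ∧
        ∀ i : Fin S, st q (blk hd M i) * blk hd M i = 1} := fun x => ⟨x.2.1 * c x.1, by
      rw [mul_assoc, hcJ, ← mul_assoc, x.2.2.1, mul_assoc], fun i => by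
      rw [← hstar _ (by rw [mul_assoc, hcJ, ← mul_assoc, x.2.2.1, mul_assoc])]
      have : sta q P d (x.2.1 * c x.1) * (x.2.1 * c x.1) = x.1.1 := by
        rw [sta_mul hK hP, mul_assoc, ← mul_assoc _ x.2.1, x.2.2.2, one_mul, hcs]
      rw [this]
      exact x.1.2.2.2 i⟩
  have hf : Function.Bijective f := by
    constructor
    · rintro ⟨s, u⟩ ⟨s', u'⟩ h
      have h1 : u.1 * c s = u'.1 * c s' := congrArg Subtype.val h
      have h2 : ∀ s u, sta q P d (u * c s) * (u * c s) = sta q P d (c s) * (sta q P d u * u) * c s := by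
        intro s u
        rw [sta_mul hK hP]; simp only [mul_assoc]
      have h3 : s = s' := by
        have h4 := h2 s u.1
        have h5 := h2 s' u'.1
        rw [u.2.2, mul_one, hcs] at h4
        rw [u'.2.2, mul_one, hcs] at h5
        apply Subtype.ext
        rw [← h4, ← h5, h1]
      subst h3
      have h6 : u.1 = u'.1 := by
        calc u.1 = u.1 * c s * ci s := by rw [mul_assoc, hc1, mul_one]
          _ = u'.1 := by rw [h1, mul_assoc, hc1, mul_one]
      rw [Prod.mk.injEq]
      exact ⟨rfl, Subtype.ext h6⟩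
    · rintro ⟨M, hM, hMb⟩
      let s : {M : Matrix ((k : Fin t) × Fin (d k)) ((k : Fin t) × Fin (d k)) K //
        M * J = J * M ∧ sta q P d M = M ∧ ∀ i : Fin S, blk hd M i = 1} := ⟨sta q P d M * M, by
          rw [mul_assoc, hM, ← mul_assoc, sta_comm hK hP hPJ hM, mul_assoc], by
          rw [sta_mul hK hP, sta_sta hK hP hPs], fun i => by rw [hstar M hM, hMb i]⟩
      have hciJ : ci s * J = J * ci s := by
        calc ci s * J = ci s * (J * (c s * ci s)) := by rw [hc1, mul_one]
          _ = (ci s * c s) * J * ci s := by rw [← mul_assoc J, ← hcJ]; simp only [mul_assoc]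
          _ = J * ci s := by rw [hc2, one_mul]
      refine ⟨(s, ⟨M * ci s, ?_, ?_⟩), ?_⟩
      · rw [mul_assoc, hciJ, ← mul_assoc, hM, mul_assoc]
      · have h1 : sta q P d (ci s) * sta q P d (c s) = 1 := by
          rw [← sta_mul hK hP, hc1, sta_one hK hP]
        have h2 : sta q P d (c s) * c s = sta q P d M * M := hcs s
        calc sta q P d (M * ci s) * (M * ci s) = sta q P d (ci s) * (sta q P d M * M) * ci s := by
              rw [sta_mul hK hP]; simp only [mul_assoc]
          _ = (sta q P d (ci s) * sta q P d (c s)) * (c s * ci s) := by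
              rw [← h2]; simp only [mul_assoc]
          _ = 1 := by rw [h1, hc1, one_mul]
      · apply Subtype.ext
        change M * ci s * c s = M
        rw [mul_assoc, hc2, mul_one]
  have h1 := Nat.card_eq_of_bijective f hf
  rw [Nat.card_prod, hY, hX, hK] at h1
  have h2 : 0 < q ^ Nat.card {p : Par d // ¬ lead p} := pow_pos (by omega) _
  have h3 : (q ^ 2) ^ Nat.card {p : Par d // ¬ lead p} =
      q ^ Nat.card {p : Par d // ¬ lead p} * q ^ Nat.card {p : Par d // ¬ lead p} := by
    rw [← pow_mul, ← pow_add]; congr 1; ring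
  rw [h3] at h1
  apply Nat.eq_of_mul_eq_mul_left h2
  rw [h1]
  ring

/-- The isometries of the standard hermitian form on `K^ι`. -/
theorem card_unit_mat (hK : Fintype.card K = q ^ 2) (ι : Type*) [Fintype ι] [DecidableEq ι] (a : ℕ)
    (ha : Fintype.card ι = a) :
    Nat.card {N : Matrix ι ι K // st q N * N = 1} = Nat.card ↥(Cfsg.GU a K q) := by
  subst ha
  set e := Fintype.equivFin ι with he
  refine Nat.card_congr
    { toFun := fun N => ⟨⟨Matrix.reindexAlgEquiv K K e N.1, Matrix.reindexAlgEquiv K K e (st q N.1), ?_, ?_⟩, ?_⟩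
      invFun := fun g => ⟨(Matrix.reindexAlgEquiv K K e).symm
        ((g : GL (Fin (Fintype.card ι)) K) : Matrix (Fin (Fintype.card ι)) (Fin (Fintype.card ι)) K), ?_⟩
      left_inv := fun N => ?_
      right_inv := fun g => ?_ }
  · rw [← map_mul, mul_eq_one_comm.1 N.2, map_one]
  · rw [← map_mul, N.2, map_one]
  · rw [mem_GU_iff_st hK]
    have : st q (Matrix.reindexAlgEquiv K K e N.1) = Matrix.reindexAlgEquiv K K e (st q N.1) := rfl
    change st q (Matrix.reindexAlgEquiv K K e N.1) * Matrix.reindexAlgEquiv K K e N.1 = 1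
    rw [this, ← map_mul, N.2, map_one]
  · have h1 := (mem_GU_iff_st hK _).1 g.2
    have : st q ((Matrix.reindexAlgEquiv K K e).symm
        ((g : GL (Fin (Fintype.card ι)) K) : Matrix (Fin (Fintype.card ι)) (Fin (Fintype.card ι)) K)) =
      (Matrix.reindexAlgEquiv K K e).symm
        (st q ((g : GL (Fin (Fintype.card ι)) K) : Matrix (Fin (Fintype.card ι)) (Fin (Fintype.card ι)) K)) := rfl
    rw [this, ← map_mul, h1, map_one]
  · apply Subtype.ext
    exact (Matrix.reindexAlgEquiv K K e).symm_apply_apply _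
  · apply Subtype.ext
    apply Units.ext
    exact (Matrix.reindexAlgEquiv K K e).apply_symm_apply _

/-- Transport to the standard form. -/
theorem exists_transport (hK : Fintype.card K = q ^ 2) (hP : ∀ n, IsUnit (P n)) (hPs : ∀ n, st q (P n) = P n)
    (hPJ : ∀ n, st q (Cfsg.jordanBlock n K) * P n * Cfsg.jordanBlock n K = P n) {n : ℕ}
    (e : ((k : Fin t) × Fin (d k)) ≃ Fin n) (u : ↥(Cfsg.GU n K q))
    (hu : IsConj (Matrix.reindex e e (Cfsg.jordanTypeMatrix d K)) ((u : GL (Fin n) K) : Matrix (Fin n) (Fin n) K)) :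
    ∃ w wi : Matrix (Fin n) (Fin n) K, w * wi = 1 ∧ wi * w = 1 ∧
      w * Matrix.reindexAlgEquiv K K e (Cfsg.jordanTypeMatrix d K) = ((u : GL (Fin n) K) : Matrix (Fin n) (Fin n) K) * w ∧
      st q w * w = Matrix.reindexAlgEquiv K K e (HH P d) := by
  set R := Matrix.reindexAlgEquiv K K e with hR
  obtain ⟨x, hx⟩ := hu
  have hx' : (x : Matrix (Fin n) (Fin n) K) * R (Cfsg.jordanTypeMatrix d K) =
      ((u : GL (Fin n) K) : Matrix (Fin n) (Fin n) K) * x := hx
  have hst : ∀ M : Matrix ((k : Fin t) × Fin (d k)) ((k : Fin t) × Fin (d k)) K, st q (R M) = R (st q M) :=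
    fun M => rfl
  have hHu : IsUnit (R (HH P d)) :=
    ⟨⟨R (HH P d), R (HI P d), by rw [← map_mul, HH_mul_HI d hP, map_one],
      by rw [← map_mul, HI_mul_HH d hP, map_one]⟩, rfl⟩
  obtain ⟨z, -, hzu, hz⟩ := exists_st_mul hK (R (HH P d)) hHu (by rw [hst, st_HH hK d hPs])
  obtain ⟨z, rfl⟩ := hzu
  have hz1 : (z : Matrix (Fin n) (Fin n) K) * ((z⁻¹ : (Matrix (Fin n) (Fin n) K)ˣ) : Matrix (Fin n) (Fin n) K) = 1 :=
    Units.mul_inv z
  have hz2 : ((z⁻¹ : (Matrix (Fin n) (Fin n) K)ˣ) : Matrix (Fin n) (Fin n) K) * (z : Matrix (Fin n) (Fin n) K) = 1 :=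
    Units.inv_mul z
  set zi : Matrix (Fin n) (Fin n) K := ((z⁻¹ : (Matrix (Fin n) (Fin n) K)ˣ) : Matrix (Fin n) (Fin n) K) with hzi
  set Je := R (Cfsg.jordanTypeMatrix d K) with hJe
  have hJH : st q Je * (st q (z : Matrix (Fin n) (Fin n) K) * z) * Je = st q (z : Matrix (Fin n) (Fin n) K) * z := by
    rw [hz, hJe, hst, ← map_mul, ← map_mul, st_J_HH_J hK d hPJ]
  have hzst : st q zi * st q (z : Matrix (Fin n) (Fin n) K) = 1 := by rw [← st_mul hK, hz1, st_one hK]
  have hg : st q ((z : Matrix (Fin n) (Fin n) K) * Je * zi) * ((z : Matrix (Fin n) (Fin n) K) * Je * zi) = 1 := by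
    calc st q ((z : Matrix (Fin n) (Fin n) K) * Je * zi) * ((z : Matrix (Fin n) (Fin n) K) * Je * zi)
        = st q zi * (st q Je * (st q (z : Matrix (Fin n) (Fin n) K) * z) * Je) * zi := by
          rw [st_mul hK, st_mul hK]; simp only [mul_assoc]
      _ = (st q zi * st q (z : Matrix (Fin n) (Fin n) K)) * (z * zi) := by rw [hJH]; simp only [mul_assoc]
      _ = 1 := by rw [hzst, hz1, one_mul]
  have hxz : ((x : Matrix (Fin n) (Fin n) K) * zi) * ((z : Matrix (Fin n) (Fin n) K) * Je * zi) =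
      ((u : GL (Fin n) K) : Matrix (Fin n) (Fin n) K) * ((x : Matrix (Fin n) (Fin n) K) * zi) := by
    calc ((x : Matrix (Fin n) (Fin n) K) * zi) * ((z : Matrix (Fin n) (Fin n) K) * Je * zi)
        = x * (zi * z) * Je * zi := by simp only [mul_assoc]
      _ = (x * Je) * zi := by rw [hz2, mul_one]
      _ = _ := by rw [hx', mul_assoc]
  have hxu : IsUnit ((x : Matrix (Fin n) (Fin n) K) * zi) := x.isUnit.mul (Units.isUnit _)
  obtain ⟨y, hy, hyc⟩ := exists_conj hK _ _ _ hg ((mem_GU_iff_st hK _).1 u.2) hxu hxz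
  refine ⟨y * z, zi * st q y, ?_, ?_, ?_, ?_⟩
  · calc y * z * (zi * st q y) = y * (z * zi) * st q y := by simp only [mul_assoc]
      _ = 1 := by rw [hz1, mul_one, mul_eq_one_comm.1 hy]
  · calc zi * st q y * (y * z) = zi * (st q y * y) * z := by simp only [mul_assoc]
      _ = 1 := by rw [hy, mul_one, hz2]
  · calc y * (z : Matrix (Fin n) (Fin n) K) * Je = y * (z : Matrix (Fin n) (Fin n) K) * Je *
          (zi * (z : Matrix (Fin n) (Fin n) K)) := by rw [hz2, mul_one]
      _ = y * ((z : Matrix (Fin n) (Fin n) K) * Je * zi) * (z : Matrix (Fin n) (Fin n) K) := by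
          simp only [mul_assoc]
      _ = _ := by rw [hyc, mul_assoc]
  · calc st q (y * (z : Matrix (Fin n) (Fin n) K)) * (y * (z : Matrix (Fin n) (Fin n) K))
        = st q (z : Matrix (Fin n) (Fin n) K) * (st q y * y) * (z : Matrix (Fin n) (Fin n) K) := by
          rw [st_mul hK]; simp only [mul_assoc]
      _ = _ := by rw [hy, mul_one, hz]

theorem card_centralizer (hK : Fintype.card K = q ^ 2) (hP : ∀ n, IsUnit (P n)) (hPs : ∀ n, st q (P n) = P n)
    (hPJ : ∀ n, st q (Cfsg.jordanBlock n K) * P n * Cfsg.jordanBlock n K = P n) {n : ℕ}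
    (e : ((k : Fin t) × Fin (d k)) ≃ Fin n) (u : ↥(Cfsg.GU n K q))
    (hu : IsConj (Matrix.reindex e e (Cfsg.jordanTypeMatrix d K)) ((u : GL (Fin n) K) : Matrix (Fin n) (Fin n) K)) :
    Nat.card ↥(Subgroup.centralizer ({u} : Set ↥(Cfsg.GU n K q))) =
      Nat.card {M : Matrix ((k : Fin t) × Fin (d k)) ((k : Fin t) × Fin (d k)) K //
        M * Cfsg.jordanTypeMatrix d K = Cfsg.jordanTypeMatrix d K * M ∧ sta q P d M * M = 1} := by
  obtain ⟨w, wi, hw1, hw2, hwJ, hwH⟩ := exists_transport hK hP hPs hPJ e u hu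
  set R := Matrix.reindexAlgEquiv K K e with hR
  have hst : ∀ M : Matrix ((k : Fin t) × Fin (d k)) ((k : Fin t) × Fin (d k)) K, st q (R M) = R (st q M) :=
    fun M => rfl
  have hst' : ∀ M : Matrix (Fin n) (Fin n) K, st q (R.symm M) = R.symm (st q M) := fun M => rfl
  set J := Cfsg.jordanTypeMatrix d K with hJ
  have hwi : R J * wi = wi * ((u : GL (Fin n) K) : Matrix (Fin n) (Fin n) K) := by
    calc R J * wi = wi * w * (R J * wi) := by rw [hw2, one_mul]
      _ = wi * (w * R J) * wi := by simp only [mul_assoc]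
      _ = _ := by rw [hwJ]; simp only [mul_assoc]; rw [hw1, mul_one]
  have hwst : st q wi * st q w = 1 := by rw [← st_mul hK, hw1, st_one hK]
  have hwst' : st q w * st q wi = 1 := by rw [← st_mul hK, hw2, st_one hK]
  have hiff : ∀ M : Matrix ((k : Fin t) × Fin (d k)) ((k : Fin t) × Fin (d k)) K,
      sta q P d M * M = 1 ↔ st q (w * R M * wi) * (w * R M * wi) = 1 := by
    intro M
    have h1 : st q (w * R M * wi) * (w * R M * wi) = st q wi * R (st q M * HH P d * M) * wi := by
      rw [map_mul, map_mul, ← hwH, ← hst, st_mul hK, st_mul hK]; simp only [mul_assoc]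
    rw [h1]
    constructor
    · intro h
      have h2 : st q M * HH P d * M = HH P d := by
        calc st q M * HH P d * M = HH P d * HI P d * (st q M * HH P d * M) := by rw [HH_mul_HI d hP, one_mul]
          _ = HH P d * (sta q P d M * M) := by rw [sta]; simp only [mul_assoc]
          _ = _ := by rw [h, mul_one]
      rw [h2, ← hwH, ← mul_assoc, hwst, one_mul, hw1]
    · intro h
      have h2 : R (st q M * HH P d * M) = R (HH P d) := by
        calc R (st q M * HH P d * M) = (st q w * st q wi) * R (st q M * HH P d * M) * (wi * w) := by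
              rw [hw2, hwst', one_mul, mul_one]
          _ = st q w * (st q wi * R (st q M * HH P d * M) * wi) * w := by simp only [mul_assoc]
          _ = _ := by rw [h, mul_one, hwH]
      have h3 : st q M * HH P d * M = HH P d := R.injective h2
      calc sta q P d M * M = HI P d * (st q M * HH P d * M) := by rw [sta]; simp only [mul_assoc]
        _ = 1 := by rw [h3, HI_mul_HH d hP]
  symm
  refine Nat.card_congr
    { toFun := fun M => ⟨⟨⟨w * R M.1 * wi, st q (w * R M.1 * wi), ?_, ?_⟩, ?_⟩, ?_⟩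
      invFun := fun g => ⟨R.symm (wi * (((g : ↥(Cfsg.GU n K q)) : GL (Fin n) K) : Matrix (Fin n) (Fin n) K) * w),
        ?_, ?_⟩
      left_inv := fun M => ?_
      right_inv := fun g => ?_ }
  · exact mul_eq_one_comm.1 ((hiff M.1).1 M.2.2)
  · exact (hiff M.1).1 M.2.2
  · exact (mem_GU_iff_st hK _).2 ((hiff M.1).1 M.2.2)
  · rw [Subgroup.mem_centralizer_singleton_iff]
    apply Subtype.ext
    apply Units.ext
    change w * R M.1 * wi * ((u : GL (Fin n) K) : Matrix (Fin n) (Fin n) K) =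
      ((u : GL (Fin n) K) : Matrix (Fin n) (Fin n) K) * (w * R M.1 * wi)
    have h1 : R M.1 * R J = R J * R M.1 := by rw [← map_mul, M.2.1, map_mul]
    calc w * R M.1 * wi * ((u : GL (Fin n) K) : Matrix (Fin n) (Fin n) K)
        = w * (R M.1 * R J) * wi := by rw [mul_assoc _ wi, ← hwi]; simp only [mul_assoc]
      _ = (w * R J) * R M.1 * wi := by rw [h1]; simp only [mul_assoc]
      _ = _ := by rw [hwJ]; simp only [mul_assoc]
  · have h1 := congrArg (fun g : ↥(Cfsg.GU n K q) => ((g : GL (Fin n) K) : Matrix (Fin n) (Fin n) K))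
      (Subgroup.mem_centralizer_singleton_iff.1 g.2)
    have h2 : (((g : ↥(Cfsg.GU n K q)) : GL (Fin n) K) : Matrix (Fin n) (Fin n) K) *
        ((u : GL (Fin n) K) : Matrix (Fin n) (Fin n) K) = ((u : GL (Fin n) K) : Matrix (Fin n) (Fin n) K) *
        (((g : ↥(Cfsg.GU n K q)) : GL (Fin n) K) : Matrix (Fin n) (Fin n) K) := h1
    set g' := (((g : ↥(Cfsg.GU n K q)) : GL (Fin n) K) : Matrix (Fin n) (Fin n) K)
    have h3 : (wi * g' * w) * R J = R J * (wi * g' * w) := by
      calc wi * g' * w * R J = wi * (g' * ((u : GL (Fin n) K) : Matrix (Fin n) (Fin n) K)) * w := by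
            rw [mul_assoc _ w, hwJ]; simp only [mul_assoc]
        _ = (wi * ((u : GL (Fin n) K) : Matrix (Fin n) (Fin n) K)) * g' * w := by rw [h2]; simp only [mul_assoc]
        _ = _ := by rw [← hwi]; simp only [mul_assoc]
    generalize wi * g' * w = X at h3 ⊢
    apply R.injective
    rw [map_mul R, map_mul R, R.apply_symm_apply]
    exact h3
  · rw [hiff, R.apply_symm_apply]
    have h1 : ∀ g' : Matrix (Fin n) (Fin n) K, w * (wi * g' * w) * wi = g' := by
      intro g'
      calc w * (wi * g' * w) * wi = (w * wi) * g' * (w * wi) := by simp only [mul_assoc]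
        _ = g' := by rw [hw1, one_mul, mul_one]
    rw [h1]
    exact (mem_GU_iff_st hK _).1 (g : ↥(Cfsg.GU n K q)).2
  · apply Subtype.ext
    change R.symm (wi * (w * R M.1 * wi) * w) = M.1
    have h1 : wi * (w * R M.1 * wi) * w = R M.1 := by
      calc wi * (w * R M.1 * wi) * w = (wi * w) * R M.1 * (wi * w) := by simp only [mul_assoc]
        _ = R M.1 := by rw [hw2, one_mul, mul_one]
    rw [h1, R.symm_apply_apply]
  · apply Subtype.ext
    apply Subtype.ext
    apply Units.ext
    change w * R (R.symm (wi * (((g : ↥(Cfsg.GU n K q)) : GL (Fin n) K) : Matrix (Fin n) (Fin n) K) * w)) * wi = _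
    rw [R.apply_symm_apply]
    calc w * (wi * (((g : ↥(Cfsg.GU n K q)) : GL (Fin n) K) : Matrix (Fin n) (Fin n) K) * w) * wi
        = (w * wi) * (((g : ↥(Cfsg.GU n K q)) : GL (Fin n) K) : Matrix (Fin n) (Fin n) K) * (w * wi) := by
          simp only [mul_assoc]
      _ = _ := by rw [hw1, one_mul, mul_one]

end Main

end Cfsg.Agent.H187
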