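import Mathlib
import Cfsg.Agent.H802.FusGroup

/-!
# Simple fusion systems of groups with a self-normalizing Sylow subgroup (helper187)

If every element normalizing the Sylow `p`-subgroup `S` induces an inner automorphism of `S` and `S` has no proper
nontrivial strongly closed subgroup, then `Aut_F(S) = Inn(S)` and the fusion system of `G` on `S` is simple.
-/

set_option autoImplicit false

namespace Cfsg.Agent.H187.FusSelfNorm

open Cfsg Cfsg.FusionSystem

variable {G : Type*} [Group G]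

/-- strong closure in the fusion system of a group, elementwise -/
theorem stronglyClosed_iff {S T : Subgroup G} :
    (groupFusionSystem S).StronglyClosed T ↔ T ≤ S ∧ ∀ x ∈ T, ∀ g : G, g * x * g⁻¹ ∈ S → g * x * g⁻¹ ∈ T := by
  constructor
  · rintro ⟨h1, h2⟩
    refine ⟨h1, fun x hx g hg => ?_⟩
    have h3 : conjHom (Subgroup.zpowers x) g ∈ (groupFusionSystem S).Hom (Subgroup.zpowers x) := by
      refine ⟨?_, ?_, g, fun y => rfl⟩
      · rw [Subgroup.zpowers_le]; exact h1 hx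
      · rintro ⟨_, n, rfl⟩
        show g * x ^ n * g⁻¹ ∈ S
        rw [← conj_zpow]
        exact S.zpow_mem hg n
    exact h2 (Subgroup.zpowers x) (by rw [Subgroup.zpowers_le]; exact hx) _ h3 ⟨x, Subgroup.mem_zpowers x⟩
  · rintro ⟨h1, h2⟩
    refine ⟨h1, fun R hR φ hφ x => ?_⟩
    obtain ⟨hRS, hφS, g, hg⟩ := hφ
    have h3 := hφS x
    rw [hg] at h3 ⊢
    exact h2 _ (hR x.2) g h3

variable [Finite G]

theorem autGroup_eq {p : ℕ} [Fact p.Prime] (S : Sylow p G)
    (hN : ∀ g : G, (∀ x ∈ (S : Subgroup G), g * x * g⁻¹ ∈ (S : Subgroup G)) →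
      ∃ s ∈ (S : Subgroup G), ∀ x ∈ (S : Subgroup G), g * x * g⁻¹ = s * x * s⁻¹) :
    (groupFusionSystem (S : Subgroup G)).autGroup (S : Subgroup G) = Cfsg.Inn ↥(S : Subgroup G) := by
  ext α
  rw [Cfsg.Agent.H802.mem_autGroup_iff _ le_rfl]
  constructor
  · rintro ⟨-, -, g, hg⟩
    have hg' : ∀ x : (S : Subgroup G), ((α x : (S : Subgroup G)) : G) = g * (x : G) * g⁻¹ := hg
    obtain ⟨s, hs, hsg⟩ := hN g (fun x hx => by rw [← hg' ⟨x, hx⟩]; exact (α ⟨x, hx⟩).2)
    refine ⟨⟨s, hs⟩, ?_⟩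
    apply MulEquiv.ext
    intro x
    apply Subtype.ext
    rw [hg', hsg x.1 x.2]
    rfl
  · rintro ⟨s, rfl⟩
    exact ⟨le_rfl, fun x => ((MulAut.conj s) x).2, s.1, fun x => rfl⟩

theorem isSimple {p : ℕ} [Fact p.Prime] (S : Sylow p G)
    (hN : ∀ g : G, (∀ x ∈ (S : Subgroup G), g * x * g⁻¹ ∈ (S : Subgroup G)) →
      ∃ s ∈ (S : Subgroup G), ∀ x ∈ (S : Subgroup G), g * x * g⁻¹ = s * x * s⁻¹)
    (hne : (S : Subgroup G) ≠ ⊥)
    (hT : ∀ T : Subgroup G, (groupFusionSystem (S : Subgroup G)).StronglyClosed T → T = ⊥ ∨ T = (S : Subgroup G)) :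
    (groupFusionSystem (S : Subgroup G)).IsSimple p := by
  refine ⟨Cfsg.Agent.H802.groupFusionSystem_isSaturated S, hne, ?_⟩
  intro T E hE
  obtain ⟨⟨hEsat, hFsat, hsub, hsc, hinv, hfrat⟩, -⟩ := hE
  rcases hT T hsc with h | h
  · exact Or.inl h
  · right
    refine ⟨h, fun P => ?_⟩
    subst h
    apply Set.Subset.antisymm (hsub P)
    intro φ hφ
    obtain ⟨α, hα, φ₀, hφ₀, h1⟩ := hfrat P ((groupFusionSystem (S : Subgroup G)).le_of_mem hφ).1 φ hφ
    rw [autGroup_eq S hN] at hα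
    obtain ⟨s, rfl⟩ := hα
    have h2 := (E.le_of_mem hφ₀).2
    have h3 : conjHom φ₀.range (s : G) ∈ E.Hom φ₀.range := E.conj_mem (by rintro _ ⟨x, rfl⟩; exact h2 x) s.2
    have h4 := E.comp_mem hφ₀ h3 (fun x => ⟨x, rfl⟩)
    convert h4 using 1
    apply MonoidHom.ext
    intro x
    rw [h1 x (h2 x)]
    rfl

end Cfsg.Agent.H187.FusSelfNorm
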