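import Mathlib
import Cfsg.Agent.H187.FusSelfNorm

/-!
# Self-normalizing Sylow subgroups without proper strongly closed subgroups: transport (helper187)

`GP S` : `S` is self-normalizing, `S ≠ 1`, and `S` has no strongly closed subgroups except `1` and `S`.
`GP.map` transports along isomorphisms; `fusion_of_GP` : if some `p`-subgroup has the property `GP` then for every
Sylow `p`-subgroup `S` : `Aut_F(S) = Inn(S)`, no proper strongly closed subgroups, the fusion system is simple.
-/

set_option autoImplicit false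

namespace Cfsg.Agent.H187.GoodSylow

open Cfsg Cfsg.FusionSystem

/-- self-normalizing, nontrivial, no proper strongly closed subgroups -/
structure GP {G : Type*} [Group G] (S : Subgroup G) : Prop where
  norm : ∀ g, (∀ x ∈ S, g * x * g⁻¹ ∈ S) → g ∈ S
  ne_bot : S ≠ ⊥
  closed : ∀ T : Subgroup G, T ≤ S → (∀ x ∈ T, ∀ g : G, g * x * g⁻¹ ∈ S → g * x * g⁻¹ ∈ T) → T = ⊥ ∨ T = S

theorem GP.map {G H : Type*} [Group G] [Group H] (e : G ≃* H) {S : Subgroup G} (h : GP S) :
    GP (S.map e.toMonoidHom) := by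
  have hm : ∀ {x : G}, e x ∈ S.map e.toMonoidHom ↔ x ∈ S := fun {x} => Subgroup.mem_map_iff_mem e.injective
  refine ⟨?_, ?_, ?_⟩
  · intro g hg
    obtain ⟨g, rfl⟩ := e.surjective g
    rw [hm]
    apply h.norm
    intro x hx
    have h1 := hg (e x) (hm.2 hx)
    rwa [← map_inv, ← map_mul, ← map_mul, hm] at h1
  · intro hb
    apply h.ne_bot
    rw [eq_bot_iff]
    intro x hx
    have h1 : e x ∈ S.map e.toMonoidHom := hm.2 hx
    rw [hb, Subgroup.mem_bot] at h1
    rw [Subgroup.mem_bot]
    exact e.injective (by rw [h1, map_one])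
  · intro T hT hcl
    have hT' : (T.comap e.toMonoidHom).map e.toMonoidHom = T :=
      Subgroup.map_comap_eq_self_of_surjective e.surjective T
    rcases h.closed (T.comap e.toMonoidHom) (fun x hx => hm.1 (hT hx)) (by
      intro x hx g hg
      have hx' : e x ∈ T := hx
      show e (g * x * g⁻¹) ∈ T
      rw [map_mul, map_mul, map_inv]
      apply hcl _ hx'
      rw [← map_inv, ← map_mul, ← map_mul, hm]
      exact hg) with h1 | h1
    · left
      rw [← hT', h1, Subgroup.map_bot]
    · right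
      rw [← hT', h1]

/-- a self-normalizing `p`-subgroup is a Sylow subgroup -/
theorem sylow_of_self_norm {G : Type*} [Group G] [Finite G] {p : ℕ} [Fact p.Prime] {S : Subgroup G}
    (hS : IsPGroup p S) (hN : ∀ g, (∀ x ∈ S, g * x * g⁻¹ ∈ S) → g ∈ S) :
    ∃ P : Sylow p G, (P : Subgroup G) = S := by
  obtain ⟨P, hP⟩ := hS.exists_le_sylow
  refine ⟨P, ?_⟩
  by_contra hne
  have h1 : S.subgroupOf (P : Subgroup G) < ⊤ := by
    rw [lt_top_iff_ne_top]
    intro h
    rw [Subgroup.subgroupOf_eq_top] at h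
    exact hne (le_antisymm h hP)
  have hnil : Group.IsNilpotent (P : Subgroup G) := P.isPGroup'.isNilpotent
  have h2 := Group.normalizerCondition_of_isNilpotent (S.subgroupOf (P : Subgroup G)) h1
  obtain ⟨x, hx, hxn⟩ := SetLike.exists_of_lt h2
  apply hxn
  show (x : G) ∈ S
  apply hN
  intro y hy
  have h3 := (Subgroup.mem_normalizer_iff.1 hx ⟨y, hP hy⟩).1 hy
  exact h3

/-- **The fusion statement.** -/
theorem fusion_of_GP {G : Type*} [Group G] [Finite G] {p : ℕ} [Fact p.Prime] {S₀ : Subgroup G}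
    (hp : IsPGroup p S₀) (h : GP S₀) (S : Sylow p G) :
    (groupFusionSystem (S : Subgroup G)).autGroup (S : Subgroup G) = Cfsg.Inn ↥(S : Subgroup G) ∧
    (∀ T : Subgroup G, (groupFusionSystem (S : Subgroup G)).StronglyClosed T → T = ⊥ ∨ T = (S : Subgroup G)) ∧
    (groupFusionSystem (S : Subgroup G)).IsSimple p := by
  obtain ⟨P, hP⟩ := sylow_of_self_norm hp h.norm
  obtain ⟨g, hg⟩ := MulAction.exists_smul_eq G P S
  have hS : GP (S : Subgroup G) := by
    have h1 := h.map (MulAut.conj g)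
    have h2 : S₀.map (MulAut.conj g).toMonoidHom = (S : Subgroup G) := by
      rw [← hg, ← hP]
      rfl
    rwa [h2] at h1
  have hN : ∀ g : G, (∀ x ∈ (S : Subgroup G), g * x * g⁻¹ ∈ (S : Subgroup G)) →
      ∃ s ∈ (S : Subgroup G), ∀ x ∈ (S : Subgroup G), g * x * g⁻¹ = s * x * s⁻¹ :=
    fun g hg => ⟨g, hS.norm g hg, fun x _ => rfl⟩
  have hT : ∀ T : Subgroup G, (groupFusionSystem (S : Subgroup G)).StronglyClosed T →
      T = ⊥ ∨ T = (S : Subgroup G) := by
    intro T hT
    rw [FusSelfNorm.stronglyClosed_iff] at hT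
    exact hS.closed T hT.1 hT.2
  exact ⟨FusSelfNorm.autGroup_eq S hN, hT, FusSelfNorm.isSimple S hN hS.ne_bot hT⟩

end Cfsg.Agent.H187.GoodSylow
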