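import Mathlib

/-!
# The group `2⁶ : A₇` and its Sylow 2-subgroup (helper187)

`E0` : the sign vectors of length 7 with product 1; `K = E0 ⋊ A₇`; `D` a dihedral subgroup of order 8 of `A₇`;
`PK` the preimage of `D` in `K`.

* `self_norm` : `PK` is self-normalizing in `K`;
* `eq_EK` : `EK = E0` is the only abelian normal subgroup of order 64 of `PK`;
* `main` : if `K` embeds in a finite group `G` so that the normalizer of `E0` in `G` is contained in the image of `K`
  and some sign vector is conjugate to a double transposition, then the image of `PK` is a self-normalizing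
  2-subgroup without proper strongly closed subgroups.
-/

set_option autoImplicit false

namespace Cfsg.Agent.H187.Om7

open Equiv

/-! ### The dihedral subgroup of order 8 -/

def mkp (f g : Fin 7 → Fin 7) (h : ∀ x, g (f x) = x ∧ f (g x) = x) : Perm (Fin 7) :=
  ⟨f, g, fun x => (h x).1, fun x => (h x).2⟩

def e7 : Perm (Fin 7) := mkp ![0,1,2,3,4,5,6] ![0,1,2,3,4,5,6] (by decide)
def a7 : Perm (Fin 7) := mkp ![2,3,0,1,4,5,6] ![2,3,0,1,4,5,6] (by decide)
def b7 : Perm (Fin 7) := mkp ![1,0,2,3,5,4,6] ![1,0,2,3,5,4,6] (by decide)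
def ab7 : Perm (Fin 7) := mkp ![3,2,0,1,5,4,6] ![2,3,1,0,5,4,6] (by decide)
def ba7 : Perm (Fin 7) := mkp ![2,3,1,0,5,4,6] ![3,2,0,1,5,4,6] (by decide)
def aba7 : Perm (Fin 7) := mkp ![0,1,3,2,5,4,6] ![0,1,3,2,5,4,6] (by decide)
def bab7 : Perm (Fin 7) := mkp ![3,2,1,0,4,5,6] ![3,2,1,0,4,5,6] (by decide)
def z7 : Perm (Fin 7) := mkp ![1,0,3,2,4,5,6] ![1,0,3,2,4,5,6] (by decide)

/-- the eight elements of `D` -/
def DF : Fin 8 → Perm (Fin 7) := ![e7, a7, b7, ab7, ba7, aba7, bab7, z7]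

theorem c1 : ∀ x y : Fin 8, DF x * DF y ≠ DF y * DF x → ∀ i, DF x i = i → DF y i = i → i = 6 := by
  decide +kernel
theorem c2 : ∀ x y : Fin 8, DF x * DF y ≠ DF y * DF x → DF x * DF y * (DF x)⁻¹ * (DF y)⁻¹ = z7 := by
  decide +kernel
theorem c21 : ∀ x y : Fin 8, ∃ w, DF x * DF y = DF w := by decide +kernel
theorem c22 : ∀ x : Fin 8, ∃ w, (DF x)⁻¹ = DF w := by decide +kernel
theorem c3 : ∀ i0, z7 i0 ≠ i0 → ∀ i2, z7 i2 ≠ i2 → i2 ≠ i0 → i2 ≠ z7 i0 → ∀ i4, z7 i4 = i4 → i4≠6 →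
    ∀ i5, z7 i5 = i5 → i5≠6 → i5≠i4 →
    (∃ w : Fin 8, (DF w 0 = i0 ∧ DF w 1 = z7 i0 ∧ DF w 2 = i2 ∧ DF w 3 = z7 i2 ∧ DF w 4 = i4 ∧ DF w 5 = i5) ∨
      (DF w 0 = i0 ∧ DF w 1 = z7 i0 ∧ DF w 2 = i2 ∧ DF w 3 = z7 i2 ∧ DF w 4 = i5 ∧ DF w 5 = i4)) := by
  decide +kernel
theorem c30 : ∀ w : Fin 8, DF w 6 = 6 := by decide +kernel
theorem c5 : a7 * b7 ≠ b7 * a7 := by decide
theorem c6 : a7 * b7 * a7⁻¹ * b7⁻¹ = z7 := by decide
theorem ca : a7 = swap 0 2 * swap 1 3 := by decide
theorem cb : b7 = swap 0 1 * swap 4 5 := by decide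
theorem cw : DF 0 = 1 ∧ DF 1 = a7 ∧ DF 2 = b7 ∧ DF 3 = a7 * b7 ∧ DF 4 = b7 * a7 ∧ DF 5 = a7 * b7 * a7 ∧
    DF 6 = b7 * a7 * b7 ∧ DF 7 = a7 * b7 * (a7 * b7) := by decide
theorem c4 : ∀ w : Fin 8, Perm.sign (DF w) = 1 := by decide +kernel
theorem c7 : ∀ w : Fin 8, w ≠ 0 → DF w = z7 ∨ ∃ v, DF w * DF v ≠ DF v * DF w := by decide +kernel

/-- `D` is self-normalizing in `A₇`. -/
theorem norm_D (g : Perm (Fin 7)) (h1 : ∃ x, g * a7 * g⁻¹ = DF x) (h2 : ∃ y, g * b7 * g⁻¹ = DF y)
    (h3 : Perm.sign g = 1) : ∃ w, g = DF w := by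
  obtain ⟨x, hx⟩ := h1
  obtain ⟨y, hy⟩ := h2
  have hne : DF x * DF y ≠ DF y * DF x := by
    rw [← hx, ← hy]
    intro h
    apply c5
    have : g * (a7 * b7) * g⁻¹ = g * (b7 * a7) * g⁻¹ := by
      calc g * (a7 * b7) * g⁻¹ = (g * a7 * g⁻¹) * (g * b7 * g⁻¹) := by group
        _ = (g * b7 * g⁻¹) * (g * a7 * g⁻¹) := h
        _ = _ := by group
    exact mul_left_cancel (mul_right_cancel this)
  have h6 : g 6 = 6 := by
    apply c1 x y hne
    · rw [← hx, Perm.mul_apply, Perm.mul_apply]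
      rw [show g⁻¹ (g 6) = 6 from g.symm_apply_apply 6]
      rfl
    · rw [← hy, Perm.mul_apply, Perm.mul_apply]
      rw [show g⁻¹ (g 6) = 6 from g.symm_apply_apply 6]
      rfl
  have hz : g * z7 = z7 * g := by
    have h := c2 x y hne
    rw [← hx, ← hy] at h
    have h' : g * (a7 * b7 * a7⁻¹ * b7⁻¹) * g⁻¹ = z7 := by rw [← h]; group
    rw [c6] at h'
    rw [← mul_inv_eq_iff_eq_mul]
    exact h'
  have hz' : ∀ i, g (z7 i) = z7 (g i) := fun i => by rw [← Perm.mul_apply, hz, Perm.mul_apply]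
  have inj : ∀ i j, i ≠ j → g i ≠ g j := fun i j h h' => h (g.injective h')
  obtain ⟨w, hw⟩ := c3 (g 0) (by rw [← hz']; exact inj _ _ (by decide)) (g 2)
    (by rw [← hz']; exact inj _ _ (by decide)) (inj _ _ (by decide))
    (by rw [← hz']; exact inj _ _ (by decide))
    (g 4) (by rw [← hz']; rfl) (by intro h; rw [← h6] at h; exact inj _ _ (by decide) h) (g 5)
    (by rw [← hz']; rfl) (by intro h; rw [← h6] at h; exact inj _ _ (by decide) h) (inj _ _ (by decide))
  rcases hw with ⟨e0, e1, e2, e3, e4, e5⟩ | ⟨e0, e1, e2, e3, e4, e5⟩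
  · refine ⟨w, ?_⟩
    ext i
    fin_cases i
    · exact congrArg _ e0.symm
    · exact congrArg _ (e1.trans (hz' 0).symm).symm
    · exact congrArg _ e2.symm
    · exact congrArg _ (e3.trans (hz' 2).symm).symm
    · exact congrArg _ e4.symm
    · exact congrArg _ e5.symm
    · exact congrArg _ (h6.trans (c30 w).symm)
  · exfalso
    have : g = DF w * swap 4 5 := by
      ext i
      fin_cases i
      · exact congrArg _ e0.symm
      · exact congrArg _ (e1.trans (hz' 0).symm).symm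
      · exact congrArg _ e2.symm
      · exact congrArg _ (e3.trans (hz' 2).symm).symm
      · exact congrArg _ e5.symm
      · exact congrArg _ e4.symm
      · exact congrArg _ (h6.trans (c30 w).symm)
    rw [this, Perm.sign_mul, c4, Perm.sign_swap (by decide)] at h3
    exact absurd h3 (by decide)

/-! ### The group `K` -/

/-- the product of a sign vector -/
def prodHom : (Fin 7 → ℤˣ) →* ℤˣ where
  toFun ε := ∏ i, ε i
  map_one' := by simp
  map_mul' ε δ := by simp [Finset.prod_mul_distrib]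

/-- sign vectors with product one -/
def E0 : Subgroup (Fin 7 → ℤˣ) := prodHom.ker

theorem mem_E0 {ε : Fin 7 → ℤˣ} : ε ∈ E0 ↔ ∏ i, ε i = 1 := Iff.rfl

/-- the action on sign vectors -/
def act (σ : Perm (Fin 7)) : MulAut E0 where
  toFun ε := ⟨fun i => ε.1 (σ⁻¹ i), by
    have h : ∏ i, ε.1 i = 1 := ε.2
    show ∏ i, ε.1 (σ⁻¹ i) = 1
    rw [← h]
    exact Equiv.prod_comp σ⁻¹ ε.1⟩
  invFun ε := ⟨fun i => ε.1 (σ i), by
    have h : ∏ i, ε.1 i = 1 := ε.2
    show ∏ i, ε.1 (σ i) = 1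
    rw [← h]
    exact Equiv.prod_comp σ ε.1⟩
  left_inv ε := by
    apply Subtype.ext
    funext i
    show ε.1 (σ⁻¹ (σ i)) = ε.1 i
    rw [show σ⁻¹ (σ i) = i from σ.symm_apply_apply i]
  right_inv ε := by
    apply Subtype.ext
    funext i
    show ε.1 (σ (σ⁻¹ i)) = ε.1 i
    rw [show σ (σ⁻¹ i) = i from σ.apply_symm_apply i]
  map_mul' _ _ := rfl

theorem act_apply (σ : Perm (Fin 7)) (ε : E0) (i : Fin 7) : (act σ ε).1 i = ε.1 (σ⁻¹ i) := rfl

/-- the action of `A₇` on the sign vectors -/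
def φ : alternatingGroup (Fin 7) →* MulAut E0 where
  toFun σ := act σ.1
  map_one' := by
    apply MulEquiv.ext
    intro ε
    rfl
  map_mul' σ τ := by
    apply MulEquiv.ext
    intro ε
    apply Subtype.ext
    funext i
    show ε.1 ((σ.1 * τ.1)⁻¹ i) = ε.1 (τ.1⁻¹ (σ.1⁻¹ i))
    rw [mul_inv_rev]
    rfl

theorem φ_apply (σ : alternatingGroup (Fin 7)) (ε : E0) (i : Fin 7) :
    (φ σ ε).1 i = ε.1 (σ.1⁻¹ i) := rfl

/-- the group `2⁶ : A₇` -/
abbrev K : Type := E0 ⋊[φ] alternatingGroup (Fin 7)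

/-- the sign vectors as a subgroup of `K` -/
def EK : Subgroup K := (SemidirectProduct.rightHom : K →* alternatingGroup (Fin 7)).ker

/-- `D` as a subgroup of `A₇` -/
def D : Subgroup (alternatingGroup (Fin 7)) where
  carrier := {σ | ∃ w, σ.1 = DF w}
  mul_mem' := by
    rintro σ τ ⟨x, hx⟩ ⟨y, hy⟩
    obtain ⟨w, hw⟩ := c21 x y
    exact ⟨w, by rw [← hw, ← hx, ← hy]; rfl⟩
  one_mem' := ⟨0, cw.1.symm⟩
  inv_mem' := by
    rintro σ ⟨x, hx⟩
    obtain ⟨w, hw⟩ := c22 x
    exact ⟨w, by rw [← hw, ← hx]; rfl⟩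

/-- the preimage of `D` in `K` -/
def PK : Subgroup K := D.comap SemidirectProduct.rightHom

/-- the elements of `D` in `A₇` -/
def DA (w : Fin 8) : alternatingGroup (Fin 7) := ⟨DF w, Perm.mem_alternatingGroup.2 (c4 w)⟩

theorem DA_mem (w : Fin 8) : DA w ∈ D := ⟨w, rfl⟩

theorem mem_PK {k : K} : k ∈ PK ↔ ∃ w, k.right = DA w := by
  constructor
  · rintro ⟨w, hw⟩
    exact ⟨w, Subtype.ext hw⟩
  · rintro ⟨w, hw⟩
    exact ⟨w, by rw [show SemidirectProduct.rightHom k = k.right from rfl, hw]; rfl⟩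

theorem mem_EK {k : K} : k ∈ EK ↔ k.right = 1 := Iff.rfl

theorem inl_mem_EK (ε : E0) : (SemidirectProduct.inl ε : K) ∈ EK := rfl

theorem exists_inl {k : K} (h : k ∈ EK) : ∃ ε : E0, k = SemidirectProduct.inl ε := by
  refine ⟨k.left, ?_⟩
  have h1 : k.right = 1 := h
  conv_lhs => rw [← SemidirectProduct.inl_left_mul_inr_right k, h1, map_one, mul_one]

theorem EK_le_PK : EK ≤ PK := fun k hk => mem_PK.2 ⟨0, by
  rw [mem_EK.1 hk]
  exact Subtype.ext cw.1.symm⟩

theorem inr_mem_PK (w : Fin 8) : (SemidirectProduct.inr (DA w) : K) ∈ PK := mem_PK.2 ⟨w, rfl⟩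

/-- the conjugation action of `K` on `E0` -/
theorem conj_inl (k : K) (ε : E0) :
    k * SemidirectProduct.inl ε * k⁻¹ = SemidirectProduct.inl (φ k.right ε) := by
  have h1 : k = SemidirectProduct.inl k.left * SemidirectProduct.inr k.right :=
    (SemidirectProduct.inl_left_mul_inr_right k).symm
  obtain ⟨δ, hδ⟩ : ∃ δ, δ = φ k.right ε := ⟨_, rfl⟩
  have h2 : (SemidirectProduct.inr k.right : K) * SemidirectProduct.inl ε *
      (SemidirectProduct.inr k.right)⁻¹ = SemidirectProduct.inl δ := by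
    rw [hδ, SemidirectProduct.inl_aut, map_inv]
  calc k * SemidirectProduct.inl ε * k⁻¹
      = SemidirectProduct.inl k.left * ((SemidirectProduct.inr k.right : K) * SemidirectProduct.inl ε *
      (SemidirectProduct.inr k.right)⁻¹) * (SemidirectProduct.inl k.left)⁻¹ := by
        conv_lhs => rw [h1]
        group
    _ = SemidirectProduct.inl δ := by
        rw [h2, ← map_mul, ← map_inv, ← map_mul, mul_inv_eq_iff_eq_mul.2]
        exact mul_comm _ _
    _ = _ := by rw [hδ]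

/-- `PK` is self-normalizing in `K`. -/
theorem self_norm (k : K) (hk : ∀ x ∈ PK, k * x * k⁻¹ ∈ PK) : k ∈ PK := by
  have h : ∀ w, ∃ v, k.right.1 * DF w * (k.right.1)⁻¹ = DF v := by
    intro w
    obtain ⟨v, hv⟩ := mem_PK.1 (hk _ (inr_mem_PK w))
    exact ⟨v, congrArg Subtype.val hv⟩
  have h1 := h 1
  have h2 := h 2
  rw [cw.2.1] at h1
  rw [cw.2.2.1] at h2
  obtain ⟨w, hw⟩ := norm_D _ h1 h2 (Perm.mem_alternatingGroup.1 k.right.2)
  exact mem_PK.2 ⟨w, Subtype.ext hw⟩

/-! ### The sign vectors with two entries `-1` -/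

/-- the sign vector with `-1` at `i` and `j` (trivial if `i = j`) -/
def dd (i j : Fin 7) : E0 := ⟨Pi.mulSingle i (-1) * Pi.mulSingle j (-1), by
  rw [mem_E0]
  have h : ∀ i : Fin 7, ∏ k, (Pi.mulSingle i (-1) : Fin 7 → ℤˣ) k = -1 := fun i => by
    rw [Finset.prod_pi_mulSingle']
    simp
  simp only [Pi.mul_apply, Finset.prod_mul_distrib, h]
  decide⟩

theorem dd_val (i j : Fin 7) : (dd i j).1 = Pi.mulSingle i (-1) * Pi.mulSingle j (-1) := rfl

theorem φ_mulSingle (σ : Perm (Fin 7)) (i : Fin 7) :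
    (fun k => (Pi.mulSingle i (-1) : Fin 7 → ℤˣ) (σ⁻¹ k)) = Pi.mulSingle (σ i) (-1) := by
  funext k
  by_cases h : k = σ i
  · subst h
    rw [show σ⁻¹ (σ i) = i from σ.symm_apply_apply i, Pi.mulSingle_eq_same, Pi.mulSingle_eq_same]
  · rw [Pi.mulSingle_eq_of_ne h, Pi.mulSingle_eq_of_ne]
    intro h'
    apply h
    rw [← h']
    exact (σ.apply_symm_apply k).symm

theorem φ_dd (σ : alternatingGroup (Fin 7)) (i j : Fin 7) : φ σ (dd i j) = dd (σ.1 i) (σ.1 j) := by
  apply Subtype.ext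
  rw [dd_val, ← φ_mulSingle, ← φ_mulSingle]
  rfl

theorem ms_mul_self (i : Fin 7) : (Pi.mulSingle i (-1) : Fin 7 → ℤˣ) * Pi.mulSingle i (-1) = 1 := by
  rw [← Pi.mulSingle_mul]
  simp

theorem dd_self (i : Fin 7) : dd i i = 1 := Subtype.ext (ms_mul_self i)

theorem dd_comm (i j : Fin 7) : dd i j = dd j i := Subtype.ext (mul_comm _ _)

theorem dd_mul (i j k : Fin 7) : dd i j * dd j k = dd i k := by
  apply Subtype.ext
  show (Pi.mulSingle i (-1) * Pi.mulSingle j (-1)) * (Pi.mulSingle j (-1) * Pi.mulSingle k (-1)) =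
    (Pi.mulSingle i (-1) * Pi.mulSingle k (-1) : Fin 7 → ℤˣ)
  rw [mul_assoc, ← mul_assoc (Pi.mulSingle j (-1)) (Pi.mulSingle j (-1)), ms_mul_self, one_mul]

/-- the `dd i j` generate -/
theorem gen {A : Subgroup E0} (hA : ∀ i, dd i 0 ∈ A) : A = ⊤ := by
  rw [eq_top_iff]
  intro ε _
  have h : ε = ∏ i, (if ε.1 i = 1 then 1 else dd i 0) := by
    apply Subtype.ext
    have h1 : ∀ i, ((if ε.1 i = 1 then 1 else dd i 0 : E0) : Fin 7 → ℤˣ) =
        Pi.mulSingle i (ε.1 i) * Pi.mulSingle 0 (ε.1 i) := by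
      intro i
      rcases Int.units_eq_one_or (ε.1 i) with h | h
      · rw [if_pos h, h, Pi.mulSingle_one, Pi.mulSingle_one]; rfl
      · rw [if_neg (by rw [h]; decide), h]; rfl
    rw [Subgroup.val_finsetProd]
    rw [Finset.prod_congr rfl (fun i _ => h1 i), Finset.prod_mul_distrib]
    rw [Finset.univ_prod_mulSingle]
    have h2 : ∏ i, (Pi.mulSingle 0 (ε.1 i) : Fin 7 → ℤˣ) = 1 := by
      have h3 : ∏ i, (Pi.mulSingle 0 (ε.1 i) : Fin 7 → ℤˣ) =
          (MonoidHom.mulSingle (fun _ : Fin 7 => ℤˣ) 0) (∏ i, ε.1 i) := by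
        rw [map_prod]; rfl
      rw [h3, mem_E0.1 ε.2, map_one]
    rw [h2, mul_one]
  rw [h]
  refine Subgroup.prod_mem _ fun i _ => ?_
  split_ifs
  · exact A.one_mem
  · exact hA i

/-- 3-cycles -/
theorem exists_three {i j k : Fin 7} (hij : i ≠ j) (hik : i ≠ k) (hjk : j ≠ k) :
    ∃ σ : alternatingGroup (Fin 7), σ.1 i = j ∧ σ.1 j = k ∧ σ.1 k = i ∧
      ∀ l, l ≠ i → l ≠ j → l ≠ k → σ.1 l = l := by
  refine ⟨⟨swap i j * swap j k, ?_⟩, ?_, ?_, ?_, ?_⟩
  · rw [Perm.mem_alternatingGroup, Perm.sign_mul, Perm.sign_swap hij, Perm.sign_swap hjk]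
    decide
  · show swap i j (swap j k i) = j
    rw [swap_apply_of_ne_of_ne hij hik, swap_apply_left]
  · show swap i j (swap j k j) = k
    rw [swap_apply_left, swap_apply_of_ne_of_ne hik.symm hjk.symm]
  · show swap i j (swap j k k) = i
    rw [swap_apply_right, swap_apply_right]
  · intro l h1 h2 h3
    show swap i j (swap j k l) = l
    rw [swap_apply_of_ne_of_ne h2 h3, swap_apply_of_ne_of_ne h1 h2]

/-- `A₇` acts irreducibly on the sign vectors. -/
theorem irr {A : Subgroup E0} (hA : ∀ (σ : alternatingGroup (Fin 7)), ∀ ε ∈ A, φ σ ε ∈ A) (hne : A ≠ ⊥) :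
    A = ⊤ := by
  obtain ⟨ε, hεA, hε1⟩ := A.bot_or_exists_ne_one.resolve_left hne
  -- two different entries
  obtain ⟨i, hi⟩ : ∃ i, ε.1 i = -1 := by
    by_contra hcon
    push Not at hcon
    apply hε1
    apply Subtype.ext
    funext i
    exact (Int.units_eq_one_or (ε.1 i)).resolve_right (hcon i)
  obtain ⟨j, hj⟩ : ∃ j, ε.1 j = 1 := by
    by_contra hcon
    push Not at hcon
    have h1 : ∀ j, ε.1 j = -1 := fun j => (Int.units_eq_one_or (ε.1 j)).resolve_left (hcon j)
    have h2 : ∏ j, ε.1 j = 1 := mem_E0.1 ε.2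
    rw [Finset.prod_congr rfl (fun j _ => h1 j)] at h2
    exact absurd h2 (by decide)
  have hij : i ≠ j := by
    rintro rfl
    rw [hi] at hj
    exact absurd hj (by decide)
  -- some `dd a b`
  obtain ⟨a, b, hab, hd⟩ : ∃ a b, a ≠ b ∧ dd a b ∈ A := by
    obtain ⟨k, hki, hkj⟩ : ∃ k, k ≠ i ∧ k ≠ j := by
      have h : ∀ i j : Fin 7, ∃ k, k ≠ i ∧ k ≠ j := by decide
      exact h i j
    obtain ⟨σ, h1, h2, h3, h4⟩ := exists_three hij hki.symm hkj.symm
    have hprod := A.mul_mem hεA (hA σ ε hεA)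
    have hs : ∀ {x y}, σ.1 x = y → σ.1⁻¹ y = x := fun {x y} h => by
      rw [← h]; exact σ.1.symm_apply_apply x
    have hval : ∀ l, (ε * φ σ ε).1 l = ε.1 l * ε.1 (σ.1⁻¹ l) := fun l => rfl
    rcases Int.units_eq_one_or (ε.1 k) with hk | hk
    · refine ⟨i, j, hij, ?_⟩
      convert hprod using 1
      apply Subtype.ext
      funext l
      rw [hval, dd_val, Pi.mul_apply]
      by_cases hli : l = i
      · subst hli
        rw [hs h3, hi, hk, Pi.mulSingle_eq_same, Pi.mulSingle_eq_of_ne hij]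
      · by_cases hlj : l = j
        · subst hlj
          rw [hs h1, hi, hj, Pi.mulSingle_eq_same, Pi.mulSingle_eq_of_ne (Ne.symm hij)]
        · rw [Pi.mulSingle_eq_of_ne hli, Pi.mulSingle_eq_of_ne hlj]
          by_cases hlk : l = k
          · subst hlk
            rw [hs h2, hj, hk]
          · rw [hs (h4 l hli hlj hlk), Int.units_mul_self, Int.units_mul_self]
    · refine ⟨j, k, hkj.symm, ?_⟩
      convert hprod using 1
      apply Subtype.ext
      funext l
      rw [hval, dd_val, Pi.mul_apply]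
      by_cases hli : l = i
      · subst hli
        rw [hs h3, hi, hk, Pi.mulSingle_eq_of_ne hij, Pi.mulSingle_eq_of_ne (Ne.symm hki)]
        decide
      · by_cases hlj : l = j
        · subst hlj
          rw [hs h1, hi, hj, Pi.mulSingle_eq_same, Pi.mulSingle_eq_of_ne (Ne.symm hkj)]
          decide
        · by_cases hlk : l = k
          · subst hlk
            rw [hs h2, hj, hk, Pi.mulSingle_eq_same, Pi.mulSingle_eq_of_ne hlj]
            decide
          · rw [Pi.mulSingle_eq_of_ne hlj, Pi.mulSingle_eq_of_ne hlk, hs (h4 l hli hlj hlk),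
              Int.units_mul_self, Int.units_mul_self]
  have hac : ∀ c, dd a c ∈ A := by
    intro c
    by_cases hca : c = a
    · rw [hca, dd_self]; exact A.one_mem
    by_cases hcb : c = b
    · rw [hcb]; exact hd
    obtain ⟨σ, h1, h2, -, -⟩ := exists_three hab (Ne.symm hca) (Ne.symm hcb)
    have h := hA σ _ hd
    rw [φ_dd, h1, h2] at h
    rw [← dd_mul a b c]
    exact A.mul_mem hd h
  apply gen
  intro c
  rw [← dd_mul c a 0, dd_comm c a]
  exact A.mul_mem (hac c) (hac 0)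

/-! ### The normal abelian subgroups of order 64 of `PK` -/

theorem d64 : Nat.card E0 = 64 := by
  have : Fintype.card {ε : Fin 7 → ℤˣ // ∏ i, ε i = 1} = 64 := by decide +kernel
  rw [← this, ← Nat.card_eq_fintype_card]
  rfl

theorem d16 : Nat.card {ε : Fin 7 → ℤˣ // ∏ i, ε i = 1 ∧ ε 0 = ε 1 ∧ ε 2 = ε 3} = 16 := by
  rw [Nat.card_eq_fintype_card]
  decide +kernel

theorem d8 : Nat.card {ε : Fin 7 → ℤˣ // ∏ i, ε i = 1 ∧ ε 0 = ε 1 ∧ ε 2 = ε 3 ∧ ε 4 = ε 5} = 8 := by
  rw [Nat.card_eq_fintype_card]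
  decide +kernel

instance finite_K : Finite K := Finite.of_equiv _ SemidirectProduct.equivProd.symm

theorem card_EK : Nat.card EK = 64 := by
  rw [← d64]
  apply Nat.card_congr
  exact {
    toFun := fun k => k.1.left
    invFun := fun ε => ⟨SemidirectProduct.inl ε, inl_mem_EK ε⟩
    left_inv := fun k => by
      obtain ⟨ε, hε⟩ := exists_inl k.2
      apply Subtype.ext
      show SemidirectProduct.inl k.1.left = k.1
      rw [hε]; rfl
    right_inv := fun ε => rfl }

theorem w1 : ∀ w : Fin 8, dd (DF w 1) (DF w 0) = dd 1 0 → w = 0 ∨ w = 2 ∨ w = 5 ∨ w = 7 := by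
  decide +kernel

theorem z_act (ε : E0) (h : φ (DA 7) ε = ε) : ε.1 0 = ε.1 1 ∧ ε.1 2 = ε.1 3 := by
  constructor
  · exact congrFun (congrArg Subtype.val h) 1
  · exact congrFun (congrArg Subtype.val h) 3

theorem b_act {w : Fin 8} (hw : w = 2 ∨ w = 5) (ε : E0) (h : φ (DA w) ε = ε) : ε.1 4 = ε.1 5 := by
  rcases hw with rfl | rfl
  · exact congrFun (congrArg Subtype.val h) 5
  · exact congrFun (congrArg Subtype.val h) 5

theorem card_le_of_forall {β : Type*} (n : ℕ) (g : Fin n → β) (S : Set β) (h : ∀ s ∈ S, ∃ i, g i = s) :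
    Nat.card S ≤ n := by
  have h1 : Nat.card S ≤ Nat.card (Set.range g) := Nat.card_mono (Set.finite_range g) h
  have h2 : Nat.card (Set.range g) ≤ Nat.card (Fin n) :=
    Nat.card_le_card_of_surjective _ Set.rangeFactorization_surjective
  rw [Nat.card_eq_fintype_card (α := Fin n), Fintype.card_fin] at h2
  exact h1.trans h2

/-- `EK` is the only abelian normal subgroup of order 64 of `PK`. -/
theorem eq_EK {B : Subgroup K} (hB : B ≤ PK) (hcomm : ∀ x ∈ B, ∀ y ∈ B, x * y = y * x)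
    (hnorm : ∀ p ∈ PK, ∀ x ∈ B, p * x * p⁻¹ ∈ B) (hcard : Nat.card B = 64) : B = EK := by
  by_contra hne
  -- an element outside `EK`
  obtain ⟨x, hxB, hx1⟩ : ∃ x ∈ B, x.right ≠ 1 := by
    by_contra hcon
    push Not at hcon
    apply hne
    apply Subgroup.eq_of_le_of_card_ge (fun y hy => mem_EK.2 (hcon y hy))
    rw [hcard, card_EK]
  -- an element over `z`
  obtain ⟨f, hfB, hf⟩ : ∃ f ∈ B, f.right = DA 7 := by
    obtain ⟨w, hw⟩ := mem_PK.1 (hB hxB)
    have hw0 : w ≠ 0 := by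
      rintro rfl
      apply hx1
      rw [hw]
      exact Subtype.ext cw.1
    rcases c7 w hw0 with h | ⟨v, hv⟩
    · exact ⟨x, hxB, by rw [hw]; exact Subtype.ext h⟩
    · refine ⟨x * (SemidirectProduct.inr (DA v) * x⁻¹ * (SemidirectProduct.inr (DA v))⁻¹),
        B.mul_mem hxB (hnorm _ (inr_mem_PK v) _ (B.inv_mem hxB)), ?_⟩
      apply Subtype.ext
      have h2 := c2 w v hv
      show x.right.1 * (DF v * (x.right.1)⁻¹ * (DF v)⁻¹) = z7
      rw [hw, ← h2]
      show DF w * (DF v * (DF w)⁻¹ * (DF v)⁻¹) = _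
      group
  -- `dd 1 0` is in `B`
  have h10 : (SemidirectProduct.inl (dd 1 0) : K) ∈ B := by
    have hp : (SemidirectProduct.inl (dd 0 4) : K) ∈ PK := EK_le_PK (inl_mem_EK _)
    have h1 := B.mul_mem hfB (hnorm _ hp _ (B.inv_mem hfB))
    have h2 : f * (SemidirectProduct.inl (dd 0 4) * f⁻¹ * (SemidirectProduct.inl (dd 0 4))⁻¹) =
        (SemidirectProduct.inl (dd 1 0) : K) := by
      calc f * (SemidirectProduct.inl (dd 0 4) * f⁻¹ * (SemidirectProduct.inl (dd 0 4))⁻¹)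
          = (f * SemidirectProduct.inl (dd 0 4) * f⁻¹) * (SemidirectProduct.inl (dd 0 4))⁻¹ := by group
        _ = SemidirectProduct.inl (φ f.right (dd 0 4)) * (SemidirectProduct.inl (dd 0 4))⁻¹ := by
            rw [conj_inl]
        _ = SemidirectProduct.inl (dd 1 0) := by
            rw [hf, φ_dd, ← map_inv, ← map_mul]
            congr 1
            decide
    rw [h2] at h1
    exact h1
  -- the images of the elements of `B`
  have himg : ∀ y ∈ B, ∃ w : Fin 8, (w = 0 ∨ w = 2 ∨ w = 5 ∨ w = 7) ∧ y.right = DA w := by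
    intro y hy
    obtain ⟨w, hw⟩ := mem_PK.1 (hB hy)
    refine ⟨w, w1 w ?_, hw⟩
    have h1 : y * SemidirectProduct.inl (dd 1 0) * y⁻¹ = (SemidirectProduct.inl (dd 1 0) : K) := by
      rw [hcomm y hy _ h10, mul_inv_cancel_right]
    rw [conj_inl, hw, φ_dd] at h1
    exact SemidirectProduct.inl_injective h1
  -- the orders
  let r : B →* alternatingGroup (Fin 7) := SemidirectProduct.rightHom.comp B.subtype
  have hr : ∀ y : B, r y = y.1.right := fun y => rfl
  have hord : Nat.card r.ker * Nat.card r.range = 64 := by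
    rw [← Subgroup.index_ker, Subgroup.card_mul_index, hcard]
  have hfix : ∀ y ∈ B, ∀ k ∈ B, k.right = 1 → φ y.right k.left = k.left := by
    intro y hy k hk hk1
    obtain ⟨ε, rfl⟩ := exists_inl (mem_EK.2 hk1)
    have h1 : y * SemidirectProduct.inl ε * y⁻¹ = (SemidirectProduct.inl ε : K) := by
      rw [hcomm y hy _ hk, mul_inv_cancel_right]
    rw [conj_inl] at h1
    exact SemidirectProduct.inl_injective h1
  by_cases hcase : ∃ y ∈ B, ∃ w : Fin 8, (w = 2 ∨ w = 5) ∧ y.right = DA w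
  · obtain ⟨y, hy, w, hw, hyw⟩ := hcase
    have h1 : Nat.card r.ker ≤ 8 := by
      rw [← d8]
      apply Nat.card_le_card_of_injective
        (fun k : r.ker => (⟨k.1.1.left.1, mem_E0.1 k.1.1.left.2, (z_act _ (hf ▸ hfix f hfB _ k.1.2 k.2)).1,
          (z_act _ (hf ▸ hfix f hfB _ k.1.2 k.2)).2, b_act hw _ (hyw ▸ hfix y hy _ k.1.2 k.2)⟩ :
          {ε : Fin 7 → ℤˣ // ∏ i, ε i = 1 ∧ ε 0 = ε 1 ∧ ε 2 = ε 3 ∧ ε 4 = ε 5}))
      intro k k' hkk'
      have h2 : k.1.1.left = k'.1.1.left := by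
        have h3 := congrArg Subtype.val hkk'
        exact Subtype.ext h3
      apply Subtype.ext
      apply Subtype.ext
      apply SemidirectProduct.ext h2
      exact (show k.1.1.right = 1 from k.2).trans (show k'.1.1.right = 1 from k'.2).symm
    have h2 : Nat.card r.range ≤ 4 := by
      apply card_le_of_forall 4 (fun i : Fin 4 => DA ((![0, 2, 5, 7] : Fin 4 → Fin 8) i)) (r.range : Set _)
      rintro _ ⟨y', rfl⟩
      obtain ⟨w', hw', hy'⟩ := himg y'.1 y'.2
      rw [hr, hy']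
      rcases hw' with rfl | rfl | rfl | rfl
      · exact ⟨0, rfl⟩
      · exact ⟨1, rfl⟩
      · exact ⟨2, rfl⟩
      · exact ⟨3, rfl⟩
    have h3 : Nat.card r.ker * Nat.card r.range ≤ 8 * 4 := Nat.mul_le_mul h1 h2
    omega
  · push Not at hcase
    have h1 : Nat.card r.ker ≤ 16 := by
      rw [← d16]
      apply Nat.card_le_card_of_injective
        (fun k : r.ker => (⟨k.1.1.left.1, mem_E0.1 k.1.1.left.2, (z_act _ (hf ▸ hfix f hfB _ k.1.2 k.2)).1,
          (z_act _ (hf ▸ hfix f hfB _ k.1.2 k.2)).2⟩ :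
          {ε : Fin 7 → ℤˣ // ∏ i, ε i = 1 ∧ ε 0 = ε 1 ∧ ε 2 = ε 3}))
      intro k k' hkk'
      have h2 : k.1.1.left = k'.1.1.left := by
        have h3 := congrArg Subtype.val hkk'
        exact Subtype.ext h3
      apply Subtype.ext
      apply Subtype.ext
      apply SemidirectProduct.ext h2
      exact (show k.1.1.right = 1 from k.2).trans (show k'.1.1.right = 1 from k'.2).symm
    have h2 : Nat.card r.range ≤ 2 := by
      apply card_le_of_forall 2 (fun i : Fin 2 => DA ((![0, 7] : Fin 2 → Fin 8) i)) (r.range : Set _)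
      rintro _ ⟨y', rfl⟩
      obtain ⟨w', hw', hy'⟩ := himg y'.1 y'.2
      have hn := hcase y'.1 y'.2 w'
      rw [hr, hy']
      rcases hw' with rfl | rfl | rfl | rfl
      · exact ⟨0, rfl⟩
      · exact absurd hy' (hn (Or.inl rfl))
      · exact absurd hy' (hn (Or.inr rfl))
      · exact ⟨1, rfl⟩
    have h3 : Nat.card r.ker * Nat.card r.range ≤ 16 * 2 := Nat.mul_le_mul h1 h2
    omega

/-! ### Overgroups of `K` -/

theorem conj_inv_mem {G : Type*} [Group G] [Finite G] {S : Subgroup G} {g : G}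
    (h : ∀ x ∈ S, g * x * g⁻¹ ∈ S) {x : G} (hx : x ∈ S) : g⁻¹ * x * g ∈ S := by
  have hinj : Function.Injective (fun y : S => (⟨g * y.1 * g⁻¹, h _ y.2⟩ : S)) := by
    intro y y' hyy'
    have h1 := congrArg Subtype.val hyy'
    exact Subtype.ext (mul_left_cancel (mul_right_cancel h1))
  obtain ⟨y, hy⟩ := (Finite.injective_iff_surjective.1 hinj) ⟨x, hx⟩
  have h1 : g * y.1 * g⁻¹ = x := congrArg Subtype.val hy
  rw [← h1]
  have : g⁻¹ * (g * y.1 * g⁻¹) * g = y.1 := by group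
  rw [this]
  exact y.2

theorem faithful {σ : alternatingGroup (Fin 7)} (h : ∀ ε, φ σ ε = ε) : σ = 1 := by
  apply Subtype.ext
  apply Equiv.ext
  intro i
  show σ.1 i = i
  by_contra hi
  have key : ∀ l, l ≠ i → σ.1 l = i := by
    intro l hl
    by_contra hli
    have h1 := congrFun (congrArg Subtype.val (h (dd i l))) i
    rw [φ_dd, dd_val, dd_val, Pi.mul_apply, Pi.mul_apply, Pi.mulSingle_eq_of_ne (Ne.symm hi),
      Pi.mulSingle_eq_of_ne (Ne.symm hli), Pi.mulSingle_eq_same, Pi.mulSingle_eq_of_ne (Ne.symm hl)] at h1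
    exact absurd h1 (by decide)
  obtain ⟨l, l', hl, hl', hll'⟩ : ∃ l l' : Fin 7, l ≠ i ∧ l' ≠ i ∧ l ≠ l' := by
    have : ∀ i : Fin 7, ∃ l l' : Fin 7, l ≠ i ∧ l' ≠ i ∧ l ≠ l' := by decide
    exact this i
  exact hll' (σ.1.injective ((key l hl).trans (key l' hl').symm))

theorem isPGroup_PK : IsPGroup 2 PK := by
  intro k
  obtain ⟨w, hw⟩ := mem_PK.1 k.2
  have hD : ∀ w : Fin 8, DF w ^ 4 = 1 := by decide +kernel
  have h1 : (k.1 ^ 4).right = 1 := by
    have : (k.1 ^ 4).right = k.1.right ^ 4 := map_pow SemidirectProduct.rightHom k.1 4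
    rw [this, hw]
    exact Subtype.ext (hD w)
  obtain ⟨ε, hε⟩ := exists_inl (mem_EK.2 h1)
  refine ⟨3, Subtype.ext ?_⟩
  show k.1 ^ 8 = 1
  rw [show (8 : ℕ) = 4 * 2 from rfl, pow_mul, hε, ← map_pow, show ε ^ 2 = 1 from ?_, map_one]
  apply Subtype.ext
  funext i
  show ε.1 i ^ 2 = 1
  exact Int.units_sq _

/-- **The Sylow 2-subgroup and its strongly closed subgroups.** -/
theorem main {G : Type*} [Group G] [Finite G] (j : K →* G) (hj : Function.Injective j)
    (hN : ∀ g : G, (∀ ε : E0, ∃ δ : E0, g * j (SemidirectProduct.inl ε) * g⁻¹ =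
      j (SemidirectProduct.inl δ)) → g ∈ j.range)
    (hf : ∃ g : G, g * j (SemidirectProduct.inl (dd 0 1)) * g⁻¹ = j (SemidirectProduct.inr (DA 7))) :
    ∃ S : Subgroup G, IsPGroup 2 S ∧ (∀ g, (∀ x ∈ S, g * x * g⁻¹ ∈ S) → g ∈ S) ∧ S ≠ ⊥ ∧
      ∀ T : Subgroup G, T ≤ S → (∀ x ∈ T, ∀ g : G, g * x * g⁻¹ ∈ S → g * x * g⁻¹ ∈ T) → T = ⊥ ∨ T = S := by
  have hjS : ∀ {k : K}, j k ∈ PK.map j ↔ k ∈ PK := fun {k} => Subgroup.mem_map_iff_mem hj
  refine ⟨PK.map j, isPGroup_PK.map j, ?_, ?_, ?_⟩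
  · -- the normalizer
    intro g hg
    have hg' : ∀ x ∈ PK.map j, g⁻¹ * x * g ∈ PK.map j := fun x hx => conj_inv_mem hg hx
    obtain ⟨A, hAdef⟩ : ∃ A : Subgroup G, A = (EK.map j).map (MulAut.conj g).toMonoidHom := ⟨_, rfl⟩
    have hA : ∀ {y : G}, y ∈ A ↔ ∃ ε : E0, y = g * j (SemidirectProduct.inl ε) * g⁻¹ := by
      intro y
      rw [hAdef]
      constructor
      · rintro ⟨_, ⟨e, he, rfl⟩, rfl⟩
        obtain ⟨ε, rfl⟩ := exists_inl he
        exact ⟨ε, rfl⟩
      · rintro ⟨ε, rfl⟩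
        exact ⟨_, ⟨_, inl_mem_EK ε, rfl⟩, rfl⟩
    have hAS : A ≤ PK.map j := by
      intro y hy
      obtain ⟨ε, rfl⟩ := hA.1 hy
      exact hg _ (hjS.2 (EK_le_PK (inl_mem_EK ε)))
    have hAr : A ≤ j.range := hAS.trans (Subgroup.map_le_range j PK)
    have hB : (A.comap j) = EK := by
      apply eq_EK
      · intro k hk
        exact hjS.1 (hAS hk)
      · intro x hx y hy
        apply hj
        rw [map_mul, map_mul]
        obtain ⟨ε, hε⟩ := hA.1 hx
        obtain ⟨δ, hδ⟩ := hA.1 hy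
        rw [hε, hδ]
        have h1 : j (SemidirectProduct.inl ε) * j (SemidirectProduct.inl δ) =
            j (SemidirectProduct.inl δ) * j (SemidirectProduct.inl ε) := by
          rw [← map_mul, ← map_mul, ← map_mul, ← map_mul, mul_comm ε δ]
        calc g * j (SemidirectProduct.inl ε) * g⁻¹ * (g * j (SemidirectProduct.inl δ) * g⁻¹)
            = g * (j (SemidirectProduct.inl ε) * j (SemidirectProduct.inl δ)) * g⁻¹ := by group
          _ = g * (j (SemidirectProduct.inl δ) * j (SemidirectProduct.inl ε)) * g⁻¹ := by rw [h1]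
          _ = _ := by group
      · intro p hp x hx
        obtain ⟨ε, hε⟩ := hA.1 hx
        obtain ⟨p', hp', hpp'⟩ := hg' _ (hjS.2 hp)
        show j (p * x * p⁻¹) ∈ A
        rw [hA]
        refine ⟨φ p'.right ε, ?_⟩
        rw [← conj_inl, map_mul, map_mul, map_mul, map_mul, hpp', map_inv, map_inv, hpp', hε]
        group
      · have h1 : Nat.card (A.comap j) = Nat.card ((A.comap j).map j) :=
          (Subgroup.card_map_of_injective hj).symm
        rw [h1, Subgroup.map_comap_eq_self hAr, hAdef,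
          Subgroup.card_map_of_injective (MulAut.conj g).injective, Subgroup.card_map_of_injective hj, card_EK]
    have hgr : g ∈ j.range := by
      apply hN
      intro ε
      have h1 : g * j (SemidirectProduct.inl ε) * g⁻¹ ∈ A := hA.2 ⟨ε, rfl⟩
      obtain ⟨k, hk⟩ := hAr h1
      have h2 : k ∈ EK := by
        rw [← hB]
        show j k ∈ A
        rw [hk]; exact h1
      obtain ⟨δ, rfl⟩ := exists_inl h2
      exact ⟨δ, hk.symm⟩
    obtain ⟨k, rfl⟩ := hgr
    rw [hjS]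
    apply self_norm
    intro x hx
    have h1 := hg _ (hjS.2 hx)
    rwa [← map_inv, ← map_mul, ← map_mul, hjS] at h1
  · -- nontrivial
    intro h
    have h1 : j (SemidirectProduct.inl (dd 0 1)) ∈ PK.map j := hjS.2 (EK_le_PK (inl_mem_EK _))
    rw [h, Subgroup.mem_bot] at h1
    have h2 : (SemidirectProduct.inl (dd 0 1) : K) = 1 := hj (by rw [h1, map_one])
    have h3 : dd 0 1 = 1 := SemidirectProduct.inl_injective (by rw [h2, map_one])
    exact absurd h3 (by decide)
  · -- strongly closed subgroups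
    intro T hTS hT
    obtain ⟨A, hA⟩ : ∃ A : Subgroup E0, A = (T.comap j).comap SemidirectProduct.inl := ⟨_, rfl⟩
    have hmem : ∀ {ε : E0}, ε ∈ A ↔ j (SemidirectProduct.inl ε) ∈ T := by
      intro ε; rw [hA]; rfl
    have hinv : ∀ (σ : alternatingGroup (Fin 7)), ∀ ε ∈ A, φ σ ε ∈ A := by
      intro σ ε hε
      rw [hmem] at hε ⊢
      have h1 := hT _ hε (j (SemidirectProduct.inr σ))
      rw [← map_inv, ← map_mul, ← map_mul, ← map_inv, ← SemidirectProduct.inl_aut] at h1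
      exact h1 (hjS.2 (EK_le_PK (inl_mem_EK _)))
    by_cases hAb : A = ⊥
    · left
      rw [eq_bot_iff]
      intro t ht
      obtain ⟨k, hk, rfl⟩ := hTS ht
      have h1 : ∀ ε, φ k.right ε = ε := by
        intro ε
        have h2 : φ k.right ε * ε⁻¹ ∈ A := by
          rw [hmem]
          have h3 : j (SemidirectProduct.inl ε) * (j k)⁻¹ * (j (SemidirectProduct.inl ε))⁻¹ ∈ T := by
            apply hT _ (T.inv_mem ht)
            rw [← map_inv, ← map_inv, ← map_mul, ← map_mul, hjS]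
            exact PK.mul_mem (PK.mul_mem (EK_le_PK (inl_mem_EK _)) (PK.inv_mem hk))
              (PK.inv_mem (EK_le_PK (inl_mem_EK _)))
          have h4 := T.mul_mem ht h3
          have h5 : j k * (j (SemidirectProduct.inl ε) * (j k)⁻¹ * (j (SemidirectProduct.inl ε))⁻¹) =
              j (SemidirectProduct.inl (φ k.right ε * ε⁻¹)) := by
            rw [map_mul SemidirectProduct.inl, ← conj_inl, map_mul, map_mul, map_mul, map_inv, map_inv, map_inv]
            group
          rw [← h5]; exact h4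
        rw [hAb, Subgroup.mem_bot, mul_inv_eq_one] at h2
        exact h2
      have h2 : k.right = 1 := faithful h1
      obtain ⟨ε, rfl⟩ := exists_inl (mem_EK.2 h2)
      have h3 : ε ∈ A := hmem.2 ht
      rw [hAb, Subgroup.mem_bot] at h3
      rw [h3, map_one, map_one]
      exact Subgroup.one_mem _
    · right
      have hAt := irr hinv hAb
      have hE : ∀ ε, j (SemidirectProduct.inl ε) ∈ T := fun ε => hmem.1 (by rw [hAt]; trivial)
      obtain ⟨g, hg⟩ := hf
      have h7 : j (SemidirectProduct.inr (DA 7)) ∈ T := by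
        have h1 := hT _ (hE (dd 0 1)) g
        rw [hg] at h1
        exact h1 (hjS.2 (inr_mem_PK 7))
      have hconj : ∀ (σ : alternatingGroup (Fin 7)) (w : Fin 8), σ * DA 7 * σ⁻¹ = DA w →
          j (SemidirectProduct.inr (DA w)) ∈ T := by
        intro σ w hw
        have h1 := hT _ h7 (j (SemidirectProduct.inr σ))
        rw [← map_inv, ← map_mul, ← map_mul, ← map_inv, ← map_mul, ← map_mul, hw] at h1
        exact h1 (hjS.2 (inr_mem_PK w))
      have h1 : j (SemidirectProduct.inr (DA 1)) ∈ T :=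
        hconj ⟨swap 1 2 * swap 4 5, Perm.mem_alternatingGroup.2 (by decide)⟩ 1 (Subtype.ext (by decide))
      have h2 : j (SemidirectProduct.inr (DA 2)) ∈ T :=
        hconj ⟨swap 2 4 * swap 3 5, Perm.mem_alternatingGroup.2 (by decide)⟩ 2 (Subtype.ext (by decide))
      have hmul : ∀ {x y w : Fin 8}, DF w = DF x * DF y → j (SemidirectProduct.inr (DA x)) ∈ T →
          j (SemidirectProduct.inr (DA y)) ∈ T → j (SemidirectProduct.inr (DA w)) ∈ T := by
        intro x y w hxy hx hy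
        have h3 : DA w = DA x * DA y := Subtype.ext hxy
        rw [h3, map_mul, map_mul]
        exact T.mul_mem hx hy
      have h0 : j (SemidirectProduct.inr (DA 0)) ∈ T := hmul (x := 1) (y := 1) (by decide) h1 h1
      have h3 : j (SemidirectProduct.inr (DA 3)) ∈ T := hmul (x := 1) (y := 2) (by decide) h1 h2
      have h4 : j (SemidirectProduct.inr (DA 4)) ∈ T := hmul (x := 2) (y := 1) (by decide) h2 h1
      have h5 : j (SemidirectProduct.inr (DA 5)) ∈ T := hmul (x := 3) (y := 1) (by decide) h3 h1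
      have h6 : j (SemidirectProduct.inr (DA 6)) ∈ T := hmul (x := 4) (y := 2) (by decide) h4 h2
      have hall : ∀ w : Fin 8, j (SemidirectProduct.inr (DA w)) ∈ T := by
        intro w
        fin_cases w
        exacts [h0, h1, h2, h3, h4, h5, h6, h7]
      apply le_antisymm hTS
      rintro _ ⟨k, hk, rfl⟩
      obtain ⟨w, hw⟩ := mem_PK.1 hk
      rw [← SemidirectProduct.inl_left_mul_inr_right k, map_mul, hw]
      exact T.mul_mem (hE _) (hall w)

end Cfsg.Agent.H187.Om7
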